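import Groth.Agent.H4DR.FlatBC.Dualizing
import Mathlib.RingTheory.Flat.FaithfullyFlat.Basic
import Mathlib.RingTheory.LocalProperties.Basic

/-!
# Descent of dualizing complexes along jointly faithful flat families
-/

set_option autoImplicit false
set_option linter.style.haveILetI false
set_option linter.unusedVariables false

universe u v w

open CategoryTheory CategoryTheory.Limits Pretriangulated TensorProduct
open Groth.Agent.H4DR.Ext (Ex pre)

attribute [local instance] HasDerivedCategory.standard

namespace Groth.Agent.H4DR.FlatBC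

variable {A : Type u} [CommRing A] {ι : Type v} (B : ι → Type u) [∀ i, CommRing (B i)] [∀ i, Algebra A (B i)]

/-- A jointly faithful family. -/
def JFaithful : Prop :=
  ∀ (N : Type (u + 1)) [AddCommGroup N] [Module A N], (∀ i, Subsingleton (B i ⊗[A] N)) → Subsingleton N

variable [∀ i, Module.Flat A (B i)]

theorem bijective_of_family (hB : JFaithful (A := A) B) {M N : Type (u + 1)} [AddCommGroup M] [Module A M]
    [AddCommGroup N] [Module A N] (f : M →ₗ[A] N) (h : ∀ i, Function.Bijective (f.lTensor (B i))) :
    Function.Bijective f := by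
  constructor
  · rw [← LinearMap.ker_eq_bot, ← Submodule.subsingleton_iff_eq_bot]
    refine hB _ fun i => subsingleton_of_forall_eq 0 fun t => ?_
    have hi : Function.Injective ((LinearMap.ker f).subtype.lTensor (B i)) :=
      Module.Flat.lTensor_preserves_injective_linearMap _ Subtype.val_injective
    refine hi ((h i).1 ?_)
    rw [map_zero, map_zero, ← LinearMap.comp_apply, ← LinearMap.lTensor_comp,
      show f ∘ₗ (LinearMap.ker f).subtype = 0 from LinearMap.ext fun x => x.2]
    simp
  · rw [← LinearMap.range_eq_top, ← Submodule.Quotient.subsingleton_iff]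
    refine hB _ fun i => subsingleton_of_forall_eq 0 fun t => ?_
    obtain ⟨y, rfl⟩ := LinearMap.lTensor_surjective (B i) (Submodule.mkQ_surjective (LinearMap.range f)) t
    obtain ⟨x, rfl⟩ := (h i).2 y
    rw [← LinearMap.comp_apply, ← LinearMap.lTensor_comp,
      show (LinearMap.range f).mkQ ∘ₗ f = 0 from LinearMap.ext fun x => (Submodule.Quotient.mk_eq_zero _).2 ⟨x, rfl⟩]
    simp

variable [IsNoetherianRing A] {K : Dual.D A} {a b : ℤ}

omit [IsNoetherianRing A] in
theorem subsingleton_HD_of_family (hB : JFaithful (A := A) B) {i : ℤ}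
    (h : ∀ j, Subsingleton (Dual.HD (B j) ((FD A (B j)).obj K) i)) : Subsingleton (Dual.HD A K i) := by
  haveI : Subsingleton (Ex (Dual.inD A A) K i) := hB _ fun j =>
    haveI := h j
    haveI : Subsingleton (B j ⊗[A] Dual.HD A K i) := (hBC (B j) i K).symm.injective.subsingleton
    ((Ext.evalEquiv K i).lTensor (B j)).injective.subsingleton
  exact (Ext.evalEquiv K i).symm.injective.subsingleton

/-- Uniform bounds descend the finite injective dimension. -/
theorem injAmp_descent (hB : JFaithful (A := A) B) {c : ℤ} (hlow : ∀ j, j < c → Subsingleton (Dual.HD A K j))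
    (h : ∀ (j : ι) (M : Type u) [AddCommGroup M] [Module (B j) M] (i : ℤ), (i < a ∨ b < i) →
      Subsingleton (Dual.inD (B j) M ⟶ ((FD A (B j)).obj K)⟦i⟧)) :
    DRing.HasInjAmplitudeIn A a b K :=
  Ext.injAmp_of_vanish K a b fun I i hi => hB _ fun j => by
    haveI := h j ((F A (B j)).obj (ModuleCat.of A (A ⧸ I))) i hi
    haveI : Subsingleton (((F A (B j)) ⋙ DerivedCategory.singleFunctor (ModuleCat.{u} (B j)) 0).obj
        (ModuleCat.of A (A ⧸ I)) ⟶ ((FD A (B j)).obj K)⟦i⟧) := ‹_›
    haveI : Subsingleton (Ex ((FD A (B j)).obj (Dual.inD A (A ⧸ I))) ((FD A (B j)).obj K) i) :=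
      (Ext.preIso (((F A (B j)).mapDerivedCategorySingleFunctor 0).app (ModuleCat.of A (A ⧸ I))) _).symm.injective.subsingleton
    exact (exBC (bij_module_of_bounded (B := B j) (W := K⟦i⟧) (a := c - i)
      (subsingleton_HD_shift hlow i) (A ⧸ I))).injective.subsingleton

variable (hB : JFaithful (A := A) B) (hfin : ∀ i : ℤ, Module.Finite A (Dual.HD A K i))
  (hbd : ∃ a b : ℤ, ∀ i : ℤ, (i < a ∨ b < i) → Subsingleton (Dual.HD A K i))
  (hloc : ∀ j, Dual.IsDualizing (B j) ((FD A (B j)).obj K))
include hB hfin hbd hloc

/-- Dualizing complexes descend, given the finite injective dimension. -/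
theorem isDualizing_descent (hfid : ∃ a b : ℤ, ∀ (M : Type u) [AddCommGroup M] [Module A M] (i : ℤ),
      (i < a ∨ b < i) → Subsingleton (Dual.inD A M ⟶ K⟦i⟧)) : Dual.IsDualizing A K where
  isNoetherianRing := inferInstance
  finite_injective_dimension := hfid
  finite_cohomology := hfin
  ext_self_subsingleton i hi := hB _ fun j => by
    obtain ⟨c, d, hcd⟩ := hbd
    haveI := (hloc j).ext_self_subsingleton i hi
    exact (exBC (bij_of_finite (B := B j) (W := K⟦i⟧) (a := c - i) hcd hfin
      (subsingleton_HD_shift (fun l hl => hcd l (Or.inl hl)) i))).injective.subsingleton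
  toEnd_bijective := by
    obtain ⟨c, d, hcd⟩ := hbd
    let g : ULift.{u + 1} A →ₗ[A] (K ⟶ K) :=
      LinearMap.toSpanSingleton A _ (𝟙 K) ∘ₗ (ULift.moduleEquiv (R := A) (M := A)).toLinearMap
    have hg : Function.Bijective g := bijective_of_family B hB g fun j => by
      have hb : Bij (B j) K K := bij_of_finite (a := c) hcd hfin fun l hl => hcd l (Or.inl hl)
      let r : B j ⊗[A] ULift.{u + 1} A ≃ₗ[B j] B j :=
        (AlgebraTensorModule.congr (LinearEquiv.refl (B j) (B j)) ULift.moduleEquiv).trans
          (AlgebraTensorModule.rid A (B j) (B j))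
      refine (Function.Bijective.of_comp_iff' hb _).1 ?_
      have he : (β (B := B j) K K ∘ g.lTensor (B j) : _ → _) = (fun c => c • 𝟙 _) ∘ r := funext fun t => by
        induction t using TensorProduct.induction_on with
        | zero => simp
        | add x y hx hy =>
          simp only [Function.comp_apply, map_add] at hx hy ⊢
          rw [hx, hy, add_smul]
        | tmul c a =>
          simp only [Function.comp_apply, LinearMap.lTensor_tmul, β_tmul, g, r, LinearMap.comp_apply,
            LinearEquiv.coe_coe, LinearMap.toSpanSingleton_apply, LinearEquiv.trans_apply,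
            AlgebraTensorModule.congr_tmul, AlgebraTensorModule.rid_tmul, LinearEquiv.refl_apply,
            FD_map_smul, CategoryTheory.Functor.map_id, smul_smul]
          rw [Algebra.smul_def, mul_comm]
      rw [he]
      exact (hloc j).toEnd_bijective.comp r.bijective
    exact (Function.Bijective.of_comp_iff _ (ULift.moduleEquiv (R := A) (M := A)).bijective).1 hg

end Groth.Agent.H4DR.FlatBC

namespace Groth.Agent.H4DR.FlatBC

variable {A : Type u} [CommRing A]

theorem jFaithful_maximal : JFaithful (A := A) fun m : MaximalSpectrum A => Localization.AtPrime m.asIdeal :=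
  fun N _ _ h => by
    have h' : ∀ (m : Ideal A) [m.IsMaximal], Subsingleton (LocalizedModule m.primeCompl N) := fun m hm =>
      haveI := h ⟨m, hm⟩
      (LocalizedModule.equivTensorProduct m.primeCompl N).injective.subsingleton
    exact Module.subsingleton_of_localization_maximal (fun m _ => LocalizedModule m.primeCompl N)
      (fun m _ => LocalizedModule.mkLinearMap m.primeCompl N) fun m _ => h' m

theorem jFaithful_prime : JFaithful (A := A) fun p : PrimeSpectrum A => Localization.AtPrime p.asIdeal :=
  fun N _ _ h => jFaithful_maximal N fun m => h ⟨m.asIdeal, inferInstance⟩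

theorem jFaithful_away {κ : Type w} (f : κ → A) (hf : Ideal.span (Set.range f) = ⊤) :
    JFaithful (A := A) fun i => Localization.Away (f i) := fun N _ _ h => by
  refine subsingleton_of_forall_eq 0 fun x => ?_
  have hann : ∀ i, f i ∈ (Ideal.radical (LinearMap.ker (LinearMap.toSpanSingleton A N x))) := fun i => by
    haveI := h i
    haveI : Subsingleton (LocalizedModule (Submonoid.powers (f i)) N) :=
      (LocalizedModule.equivTensorProduct (Submonoid.powers (f i)) N).injective.subsingleton
    obtain ⟨⟨_, k, rfl⟩, hk⟩ := (IsLocalizedModule.eq_zero_iff (Submonoid.powers (f i))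
      (LocalizedModule.mkLinearMap (Submonoid.powers (f i)) N)).1 (Subsingleton.elim (LocalizedModule.mkLinearMap _ N x) 0)
    exact ⟨k, hk⟩
  have : (Ideal.radical (LinearMap.ker (LinearMap.toSpanSingleton A N x))) = ⊤ :=
    top_le_iff.1 (hf ▸ Ideal.span_le.2 (Set.range_subset_iff.2 hann))
  simpa using (Ideal.eq_top_iff_one _).1 (Ideal.radical_eq_top.1 this)

theorem jFaithful_faithfullyFlat (B : Type u) [CommRing B] [Algebra A B] [Module.FaithfullyFlat A B] :
    JFaithful (A := A) fun _ : PUnit.{1} => B := fun N _ _ h =>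
  haveI := h PUnit.unit
  Module.FaithfullyFlat.lTensor_reflects_triviality A B N

end Groth.Agent.H4DR.FlatBC

namespace Groth.Agent.H4DR.FlatBC

variable {A : Type u} [CommRing A] {ι : Type v} (B : ι → Type u) [∀ i, CommRing (B i)] [∀ i, Algebra A (B i)]

/-- Finiteness descends along a finite jointly faithful family. -/
theorem finite_of_family [Finite ι] (hB : JFaithful (A := A) B) (M : Type u) [AddCommGroup M] [Module A M]
    (h : ∀ i, Module.Finite (B i) (B i ⊗[A] M)) : Module.Finite A M := by
  classical
  cases nonempty_fintype ι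
  have hgen : ∀ i, ∃ N : Submodule A M, N.FG ∧ ∀ t : B i ⊗[A] M, t ∈ LinearMap.range (N.subtype.lTensor (B i)) := fun i => by
    obtain ⟨s, hs⟩ := (h i).fg_top
    choose N hN hmem using fun t : B i ⊗[A] M => TensorProduct.exists_finite_submodule_right_of_setFinite {t} (Set.finite_singleton t)
    refine ⟨s.sup N, Submodule.fg_finset_sup s N fun t _ => Module.Finite.iff_fg.1 (hN t), fun t => ?_⟩
    have ht : t ∈ Submodule.span (B i) (s : Set (B i ⊗[A] M)) := hs ▸ Submodule.mem_top
    refine Submodule.span_induction (p := fun t _ => t ∈ LinearMap.range ((s.sup N).subtype.lTensor (B i))) ?_ ⟨0, map_zero _⟩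
      (fun x y _ _ hx hy => add_mem hx hy) ?_ ht
    · intro x hx
      obtain ⟨y, hy⟩ := hmem x (Set.mem_singleton x)
      refine ⟨(Submodule.inclusion (Finset.le_sup (f := N) hx)).lTensor (B i) y, ?_⟩
      rw [← LinearMap.comp_apply, ← LinearMap.lTensor_comp, Submodule.subtype_comp_inclusion]
      exact hy
    · rintro c x - ⟨y, rfl⟩
      refine ⟨c • y, ?_⟩
      exact ((AlgebraTensorModule.lTensor (B i) (B i) ((s.sup N).subtype)).map_smul c y)
  choose N hN hall using hgen
  refine ⟨?_⟩
  suffices h' : Finset.univ.sup N = ⊤ by rw [← h']; exact Submodule.fg_finset_sup _ N fun i _ => hN i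
  have hq : Subsingleton (ULift.{u + 1} (M ⧸ Finset.univ.sup N)) := hB _ fun i => by
    refine subsingleton_of_forall_eq 0 fun t => ?_
    obtain ⟨t, rfl⟩ := ((ULift.moduleEquiv (R := A) (M := M ⧸ Finset.univ.sup N)).symm.lTensor (B i)).surjective t
    obtain ⟨y, rfl⟩ := LinearMap.lTensor_surjective (B i) (Submodule.mkQ_surjective (Finset.univ.sup N)) t
    obtain ⟨z, rfl⟩ := hall i y
    rw [← LinearMap.comp_apply (f := (Finset.univ.sup N).mkQ.lTensor (B i)), ← LinearMap.lTensor_comp,
      show (Finset.univ.sup N).mkQ ∘ₗ (N i).subtype = 0 from LinearMap.ext fun x =>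
        (Submodule.Quotient.mk_eq_zero _).2 (Finset.le_sup (f := N) (Finset.mem_univ i) x.2)]
    simp
  exact Submodule.Quotient.subsingleton_iff.1 ((ULift.moduleEquiv (R := A)).symm.injective.subsingleton)

end Groth.Agent.H4DR.FlatBC
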