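import Groth.Agent.H4DR.FlatBC.Finite
import Groth.Agent.H4DR.Dualizing.Compare
import Mathlib.RingTheory.LocalProperties.Injective
import Mathlib.RingTheory.Localization.BaseChange

/-!
# Dualizing complexes and flat base change, localization
-/

set_option autoImplicit false
set_option linter.style.haveILetI false
set_option linter.unusedVariables false

universe u

open CategoryTheory CategoryTheory.Limits Pretriangulated TensorProduct
open Groth.Agent.H4DR.Ext (Ex pre)

attribute [local instance] HasDerivedCategory.standard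

namespace Groth.Agent.H4DR.FlatBC

variable {A B : Type u} [CommRing A] [CommRing B] [Algebra A B] [Module.Flat A B]

/-- Derived base change along a flat map is the exact base change. -/
noncomputable def lbaseIso [DRing.HasLBaseChange (algebraMap A B)] (K : Dual.D A) :
    (DRing.LBaseChange (algebraMap A B)).obj K ≅ (FD A B).obj K :=
  let X := DerivedCategory.Q.objPreimage K
  let P := (H25DTen.res A).obj X
  haveI := H25DTen.quasiIso_resψ X
  let e : DRing.toD P ≅ K :=
    asIso (DerivedCategory.Q.map ((H25DTen.resψ A).app X)) ≪≫ DerivedCategory.Q.objObjPreimageIso K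
  (DRing.LBaseChange (algebraMap A B)).mapIso e.symm ≪≫
    TorAmp.lbaseObj (algebraMap A B) P (H25DTen.isKFlat_res X) ≪≫
    ((F A B).mapDerivedCategoryFactors.app P).symm ≪≫ (FD A B).mapIso e

theorem finite_HD_FD {K : Dual.D A} (h : ∀ i : ℤ, Module.Finite A (Dual.HD A K i)) (i : ℤ) :
    Module.Finite B (Dual.HD B ((FD A B).obj K) i) :=
  haveI := h i
  Module.Finite.equiv (hBC B i K).symm

variable [IsNoetherianRing A]

theorem bij_dualizing {ω : Dual.D A} (hω : Dual.IsDualizing A ω) (i : ℤ) : Bij B ω (ω⟦i⟧) := by
  obtain ⟨a, b, h⟩ := Dualizing.exists_bounds hω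
  exact bij_of_finite h hω.finite_cohomology (a := a - i)
    (subsingleton_HD_shift (c := a) (fun j hj => h j (Or.inl hj)) i)

/-- Flat base change of a dualizing complex, given the finite injective dimension. -/
theorem isDualizing_FD [IsNoetherianRing B] {ω : Dual.D A} (hω : Dual.IsDualizing A ω)
    (hfid : ∃ a b : ℤ, ∀ (M : Type u) [AddCommGroup M] [Module B M] (i : ℤ),
      (i < a ∨ b < i) → Subsingleton (Dual.inD B M ⟶ ((FD A B).obj ω)⟦i⟧)) :
    Dual.IsDualizing B ((FD A B).obj ω) where
  isNoetherianRing := inferInstance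
  finite_injective_dimension := hfid
  finite_cohomology := finite_HD_FD hω.finite_cohomology
  ext_self_subsingleton i hi := by
    haveI := hω.ext_self_subsingleton i hi
    exact (exBC (bij_dualizing (B := B) hω i)).symm.injective.subsingleton
  toEnd_bijective := by
    let z := shiftFunctorZero (Dual.D A) ℤ
    have hb : Bij B ω ω := (bij_dualizing (B := B) hω 0).of_iso₂ (z.app ω)
    let l : A ≃ₗ[A] (ω ⟶ ω) := LinearEquiv.ofBijective (LinearMap.toSpanSingleton A _ (𝟙 ω)) hω.toEnd_bijective
    let e : B ≃ₗ[B] ((FD A B).obj ω ⟶ (FD A B).obj ω) :=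
      (AlgebraTensorModule.rid A B B).symm.trans
        ((AlgebraTensorModule.congr (LinearEquiv.refl B B) l).trans (LinearEquiv.ofBijective (β ω ω) hb))
    have he : (fun b : B => b • 𝟙 ((FD A B).obj ω)) = e := funext fun b => by
      show b • 𝟙 _ = β ω ω (AlgebraTensorModule.congr (LinearEquiv.refl B B) l ((AlgebraTensorModule.rid A B B).symm b))
      rw [AlgebraTensorModule.rid_symm_apply, AlgebraTensorModule.congr_tmul, β_tmul]
      simp [l, LinearMap.toSpanSingleton_apply, CategoryTheory.Functor.map_id]
    rw [he]
    exact e.bijective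

omit [Module.Flat A B] in
lemma injective_F_obj (S : Submonoid A) [IsLocalization S B] (M : ModuleCat.{u} A)
    (hM : Module.Injective A M) : Module.Injective B ((F A B).obj M) := by
  haveI := hM
  haveI : IsLocalizedModule S (TensorProduct.mk A B M 1) :=
    (isLocalizedModule_iff_isBaseChange S B _).2 (TensorProduct.isBaseChange A M B)
  haveI : Module.Injective B (B ⊗[A] M) := Module.injective_of_isLocalizedModule S (TensorProduct.mk A B M 1)
  exact Module.Injective.of_ringEquiv (RingEquiv.refl B) ((toFₗ B M).restrictScalars B)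

/-- Localization preserves injective amplitude. -/
theorem injAmp_FD (S : Submonoid A) [IsLocalization S B] {K : Dual.D A} {a b : ℤ}
    (h : DRing.HasInjAmplitudeIn A a b K) : DRing.HasInjAmplitudeIn B a b ((FD A B).obj K) := by
  obtain ⟨E, hv, hE, ⟨e⟩⟩ := h
  exact ⟨_, fun i hi => (F A B).map_isZero (hv i hi), fun i => injective_F_obj S (E.X i) (hE i),
    ⟨((F A B).mapDerivedCategoryFactors.app E).symm ≪≫ (FD A B).mapIso e⟩⟩

/-- Localizations of dualizing complexes are dualizing. -/
theorem isDualizing_localization [IsNoetherianRing B] (S : Submonoid A) [IsLocalization S B] {ω : Dual.D A}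
    (hω : Dual.IsDualizing A ω) : Dual.IsDualizing B ((FD A B).obj ω) := by
  obtain ⟨a, b, h⟩ := Ext.fid_iff.1 (show Ext.FID ω from hω.finite_injective_dimension)
  exact isDualizing_FD hω ⟨a, b, fun M _ _ i hi =>
    Ext.subsingleton_inD_of_injAmp (injAmp_FD S h) M hi⟩

end Groth.Agent.H4DR.FlatBC

namespace Groth.Agent.H4DR.Dualizing

/-- Dualizing complexes are stable under isomorphism. -/
theorem isDualizing_of_iso {A : Type u} [CommRing A] {ω ω' : Dual.D A} (e : ω ≅ ω') (h : Dual.IsDualizing A ω) :
    Dual.IsDualizing A ω' where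
  isNoetherianRing := h.isNoetherianRing
  finite_injective_dimension := by
    obtain ⟨a, b, hab⟩ := h.finite_injective_dimension
    exact ⟨a, b, fun M _ _ i hi =>
      haveI := hab M i hi
      (Ext.postIso (Dual.inD A M) ((shiftFunctor (Dual.D A) i).mapIso e)).symm.injective.subsingleton⟩
  finite_cohomology := finite_HD_of_iso e.symm h.finite_cohomology
  toEnd_bijective := by
    let φ : (ω ⟶ ω) ≃ₗ[A] (ω' ⟶ ω') := Linear.homCongr A e e
    have he : (fun a : A => a • 𝟙 ω') = φ ∘ (fun a : A => a • 𝟙 ω) := funext fun a => by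
      simp [φ, Linear.homCongr_apply]
    rw [he]
    exact φ.bijective.comp h.toEnd_bijective
  ext_self_subsingleton i hi := by
    haveI := h.ext_self_subsingleton i hi
    exact (Linear.homCongr A e ((shiftFunctor (Dual.D A) i).mapIso e)).symm.injective.subsingleton

end Groth.Agent.H4DR.Dualizing
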