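import Groth.Agent.H4DR.Dualizing.Gorenstein
import Groth.Agent.H4Inj.Essential
import Mathlib.RingTheory.Polynomial.Basic
import Mathlib.LinearAlgebra.DirectSum.Finsupp

/-!
# Dualizing complexes of polynomial rings
-/

set_option autoImplicit false
set_option linter.style.haveILetI false
set_option linter.unusedVariables false

universe u v

open CategoryTheory CategoryTheory.Limits Pretriangulated TensorProduct
open Groth.Agent.H4DR.Ext (Ex postIso)
open Polynomial

attribute [local instance] HasDerivedCategory.standard

namespace Groth.Agent.H4DR.FlatBC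

variable {A : Type u} [CommRing A]

/-- Over a Noetherian ring a direct sum of injectives is injective. -/
theorem injective_finsupp.{w} [IsNoetherianRing A] (ι : Type w) (M : Type u) [AddCommGroup M] [Module A M]
    [Module.Injective A M] : Module.Injective A (ι →₀ M) := by
  classical
  refine Module.Baer.injective fun I g => ?_
  obtain ⟨s, hs⟩ := (Module.Finite.of_fg (IsNoetherian.noetherian I) : Module.Finite A I).fg_top
  let S : Finset ι := s.biUnion fun x => (g x).support
  have hS : ∀ x : I, g x ∈ Finsupp.supported M A (S : Set ι) := fun x => by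
    have hx : x ∈ Submodule.span A (s : Set I) := hs ▸ Submodule.mem_top
    refine (Submodule.span_le (p := (Finsupp.supported M A (S : Set ι)).comap g)).2 (fun y hy => ?_) hx
    exact fun i hi => Finset.mem_biUnion.2 ⟨y, hy, hi⟩
  choose G hG using fun i => Module.Baer.of_injective (inferInstance : Module.Injective A M) I (Finsupp.lapply i ∘ₗ g)
  refine ⟨∑ i ∈ S, Finsupp.lsingle i ∘ₗ G i, fun x hx => Finsupp.ext fun j => ?_⟩
  simp only [LinearMap.sum_apply, LinearMap.comp_apply, Finsupp.coe_finsetSum, Finset.sum_apply,
    Finsupp.lsingle_apply, Finsupp.single_apply, Finset.sum_ite_eq']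
  split_ifs with hj
  · exact hG j x hx
  · exact (Finsupp.notMem_support_iff.1 fun h => hj (hS ⟨x, hx⟩ h)).symm

/-- `A[X] ⊗ M` is injective over `A`. -/
theorem injective_polynomial_tensor [IsNoetherianRing A] (M : Type u) [AddCommGroup M] [Module A M]
    [Module.Injective A M] : Module.Injective A (A[X] ⊗[A] M) :=
  haveI := injective_finsupp (A := A) ℕ M
  H4Inj.injective_of_equiv ((TensorProduct.congr (Polynomial.basisMonomials A).repr (LinearEquiv.refl A M)).trans
    (TensorProduct.finsuppScalarLeft A M ℕ)) this

section Coinduced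

variable (N : Type u) [AddCommGroup N] [Module A N] [Module A[X] N] [IsScalarTower A A[X] N]

/-- `Hom_A(A[X], N)` with `A[X]` acting on the source. -/
def Coind : Type u := A[X] →ₗ[A] N

noncomputable instance : AddCommGroup (Coind (A := A) N) := inferInstanceAs (AddCommGroup (A[X] →ₗ[A] N))

variable {N} in
/-- The underlying map. -/
def Coind.app (h : Coind (A := A) N) : A[X] →ₗ[A] N := h

omit [Module A[X] N] [IsScalarTower A A[X] N] in
variable {N} in
@[ext] lemma Coind.ext' {h k : Coind (A := A) N} (e : ∀ b, h.app b = k.app b) : h = k := LinearMap.ext e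

noncomputable instance : Module A[X] (Coind (A := A) N) where
  smul c h := (Coind.app h) ∘ₗ LinearMap.mulRight A c
  one_smul h := LinearMap.ext fun b => congrArg (Coind.app h) (mul_one b)
  mul_smul c d h := LinearMap.ext fun b => congrArg (Coind.app h) (mul_assoc b c d).symm
  smul_zero c := LinearMap.ext fun _ => rfl
  zero_smul h := LinearMap.ext fun b => (congrArg (Coind.app h) (mul_zero b)).trans (map_zero (Coind.app h))
  smul_add c h k := LinearMap.ext fun _ => rfl
  add_smul c d h := LinearMap.ext fun b => (congrArg (Coind.app h) (mul_add b c d)).trans (map_add _ _ _)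

omit [Module A[X] N] [IsScalarTower A A[X] N] in
lemma Coind.smul_app (c : A[X]) (h : Coind (A := A) N) (b : A[X]) : (c • h).app b = h.app (b * c) := rfl

omit [Module A[X] N] [IsScalarTower A A[X] N] in
theorem injective_coind [Module.Injective A N] : Module.Injective A[X] (Coind (A := A) N) := by
  refine Module.Baer.injective fun I φ => ?_
  let g : (I.restrictScalars A) →ₗ[A] N :=
    { toFun := fun x => (Coind.app (φ x)) 1
      map_add' := fun x y => LinearMap.congr_fun (map_add φ x y) 1
      map_smul' := fun a x => by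
        have h : (Coind.app (φ (algebraMap A A[X] a • x : I))) 1 = a • (Coind.app (φ x)) 1 := by
          refine (LinearMap.congr_fun (map_smul φ (algebraMap A A[X] a) x) 1).trans ?_
          show (Coind.app (φ x)) (1 * algebraMap A A[X] a) = _
          rw [one_mul, Algebra.algebraMap_eq_smul_one, map_smul]
        refine Eq.trans ?_ h
        exact congrArg (fun t : I => (Coind.app (φ t)) 1) (Subtype.ext (Algebra.smul_def a (x : A[X]))) }
  obtain ⟨G, hG⟩ := Module.Injective.extension_property A N (I.restrictScalars A) A[X] (I.restrictScalars A).subtype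
    Subtype.val_injective g
  refine ⟨LinearMap.toSpanSingleton A[X] _ (G : Coind (A := A) N), fun x hx => Coind.ext' fun b => ?_⟩
  show G (b * x) = (Coind.app (φ ⟨x, hx⟩)) b
  refine (LinearMap.congr_fun hG ⟨b * x, I.mul_mem_left b hx⟩).trans ?_
  refine (LinearMap.congr_fun (map_smul φ b ⟨x, hx⟩) 1).trans ?_
  exact congrArg (Coind.app (φ ⟨x, hx⟩)) (one_mul b)

/-- `h ↦ X h(-) - h(X -)`. -/
noncomputable def delta (f : A[X] →ₗ[A] N) : A[X] →ₗ[A] N where
  toFun b := X • f b - f (X * b)
  map_add' b c := by
    rw [mul_add, map_add, map_add]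
    exact (congrArg (· - _) (smul_add (X : A[X]) (f b) (f c))).trans (by abel)
  map_smul' a b := by
    rw [RingHom.id_apply, mul_smul_comm, map_smul, map_smul, smul_comm, smul_sub]

theorem hasInjectiveDimensionLT_two [Module.Injective A N] :
    HasInjectiveDimensionLT (ModuleCat.of A[X] N) 2 := by
  let ι : N →ₗ[A[X]] Coind (A := A) N :=
    { toFun := fun n => (LinearMap.toSpanSingleton A[X] N n).restrictScalars A
      map_add' := fun m n => Coind.ext' fun b => smul_add b m n
      map_smul' := fun c n => Coind.ext' fun b => by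
        show b • c • n = (b * c) • n
        exact (mul_smul b c n).symm }
  let D : Coind (A := A) N → Coind (A := A) N := fun h => delta N h.app
  have hD : ∀ (h : Coind (A := A) N) (b : A[X]), (D h).app b = X • h.app b - h.app (X * b) := fun h b => rfl
  let del : Coind (A := A) N →ₗ[A[X]] Coind (A := A) N :=
    { toFun := D
      map_add' := fun h k => Coind.ext' fun b => by
        refine (hD (h + k) b).trans ?_
        show X • (h.app b + k.app b) - (h.app (X * b) + k.app (X * b)) = (D h).app b + (D k).app b
        rw [hD, hD, smul_add]; abel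
      map_smul' := fun c h => Coind.ext' fun b => by
        rw [RingHom.id_apply, hD, Coind.smul_app, Coind.smul_app, Coind.smul_app, hD, mul_assoc] }
  have hdel' : ∀ (h : Coind (A := A) N) (b : A[X]), (del h).app b = X • h.app b - h.app (X * b) := hD
  have hι : Function.Injective ι := fun m n h => by
    have := congrArg (fun t : Coind (A := A) N => t.app (1 : A[X])) h
    exact (one_smul A[X] m).symm.trans (this.trans (one_smul A[X] n))
  have hX : ∀ k, Polynomial.basisMonomials A k = (X : A[X]) ^ k := fun k => by
    simp only [Polynomial.coe_basisMonomials, Polynomial.monomial_one_right_eq_X_pow]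
  have hdel : Function.Surjective del := fun g => by
    let f : ℕ → N := fun n => Nat.rec (0 : N) (fun k t => (X : A[X]) • t - (Coind.app g) ((X : A[X]) ^ k)) n
    let h : A[X] →ₗ[A] N := (Polynomial.basisMonomials A).constr A f
    refine ⟨(h : Coind (A := A) N), (Polynomial.basisMonomials A).ext fun n => ?_⟩
    refine (hdel' (h : Coind (A := A) N) _).trans ?_
    show X • h (Polynomial.basisMonomials A n) - h (X * Polynomial.basisMonomials A n) = g.app _
    rw [show X * Polynomial.basisMonomials A n = Polynomial.basisMonomials A (n + 1) by rw [hX, hX, pow_succ'],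
      Module.Basis.constr_basis, Module.Basis.constr_basis,
      show f (n + 1) = (X : A[X]) • f n - (Coind.app g) ((X : A[X]) ^ n) from rfl, hX, sub_sub_cancel]
  have hex : Function.Exact ι del := fun h => by
    constructor
    · intro hh
      refine ⟨h.app 1, (Polynomial.basisMonomials A).ext fun n => ?_⟩
      show Polynomial.basisMonomials A n • h.app 1 = h.app _
      rw [hX]
      induction n with
      | zero => rw [pow_zero, one_smul]
      | succ k ih =>
        have h1 := (hdel' h (X ^ k)).symm.trans (congrArg (fun t : Coind (A := A) N => t.app (X ^ k)) hh)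
        rw [pow_succ', mul_smul, ih]
        exact sub_eq_zero.1 h1
    · rintro ⟨n, rfl⟩
      refine Coind.ext' fun b => (hdel' _ b).trans ?_
      show X • b • n - (X * b) • n = 0
      rw [mul_smul, sub_self]
  let S : ShortComplex (ModuleCat.{u} A[X]) := ShortComplex.mk
    (X₁ := ModuleCat.of A[X] N) (X₂ := ModuleCat.of A[X] (Coind (A := A) N))
    (X₃ := ModuleCat.of A[X] (Coind (A := A) N)) (ModuleCat.ofHom ι) (ModuleCat.ofHom del)
    (ModuleCat.hom_ext (LinearMap.ext fun x => hex.apply_apply_eq_zero x))
  haveI : Mono S.f := (ModuleCat.mono_iff_injective _).2 hι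
  haveI : Epi S.g := (ModuleCat.epi_iff_surjective _).2 hdel
  have hS : S.ShortExact := ShortComplex.ShortExact.mk'
    ((ShortComplex.ShortExact.moduleCat_exact_iff_function_exact S).2 hex) inferInstance inferInstance
  haveI := injective_coind (A := A) N
  haveI : Injective (ModuleCat.of A[X] (Coind (A := A) N)) :=
    Module.injective_object_of_injective_module A[X] _
  exact hS.hasInjectiveDimensionLT_X₁ 1 (inferInstanceAs (HasInjectiveDimensionLT (ModuleCat.of A[X] (Coind (A := A) N)) 1))
    (inferInstanceAs (HasInjectiveDimensionLT (ModuleCat.of A[X] (Coind (A := A) N)) 2))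

end Coinduced

variable [IsNoetherianRing A]

/-- Base change of a bounded complex of injectives to `A[X]` has finite injective dimension. -/
theorem fid_polynomial {K : Dual.D A} {a b : ℤ} (h : DRing.HasInjAmplitudeIn A a b K) :
    ∀ (M : Type u) [AddCommGroup M] [Module A[X] M] (i : ℤ), (i < a ∨ b + 1 < i) →
      Subsingleton (Dual.inD A[X] M ⟶ ((FD A A[X]).obj K)⟦i⟧) := by
  obtain ⟨E, hv, hE, ⟨e⟩⟩ := h
  have hbase : ∀ (j : ℤ) (M : Type u) [AddCommGroup M] [Module A[X] M] (k : ℤ), (k < 0 ∨ 1 < k) →
      Subsingleton (Ex (Dual.inD A[X] M) (Dual.inD A[X] ((F A A[X]).obj (E.X j))) k) := fun j M _ _ k hk => by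
    rcases hk with hk | hk
    · exact Dualizing.subsingleton_ex_neg M _ hk
    · lift k to ℕ using (by omega)
      haveI := hE j
      haveI := injective_polynomial_tensor (A := A) (E.X j)
      haveI := hasInjectiveDimensionLT_two (A := A) (A[X] ⊗[A] (E.X j))
      haveI : HasInjectiveDimensionLT (ModuleCat.of A[X] ((F A A[X]).obj (E.X j))) 2 :=
        hasInjectiveDimensionLT_of_iso (toFₗ A[X] (E.X j)).toModuleIso 2
      exact (Dualizing.subsingleton_ex_iff_ext M _ k).2 (subsingleton_of_forall_eq 0 fun x =>
        x.eq_zero_of_hasInjectiveDimensionLT 2 (by omega))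
  let P : Dual.D A[X] → Prop := fun L => ∀ (M : Type u) [AddCommGroup M] [Module A[X] M] (k : ℤ),
    (k < a ∨ b + 1 < k) → Subsingleton (Ex (Dual.inD A[X] M) L k)
  have hiso : ∀ {L L' : Dual.D A[X]}, (L ≅ L') → P L → P L' := fun f hL M _ _ k hk =>
    haveI := hL M k hk
    (postIso _ ((shiftFunctor (Dual.D A[X]) k).mapIso f)).symm.injective.subsingleton
  have hzero : ∀ L : Dual.D A[X], (∀ i, Subsingleton (Dual.HD A[X] L i)) → P L := fun L hL M _ _ k hk =>
    ⟨fun f g => ((shiftFunctor (Dual.D A[X]) k).map_isZero (Dualizing.isZero_of_subsingleton_HD hL)).eq_of_tgt f g⟩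
  have hP : P (DRing.toD (((F A A[X]).mapHomologicalComplex (ComplexShape.up ℤ)).obj E)) := by
    refine Ext.ind_terms P hzero hiso (fun T hT h1 h3 M _ _ k hk =>
      Ext.subsingleton_post₂ _ (Triangle.shift_distinguished T hT k) (h1 M k hk) (h3 M k hk))
      (b + 1 - a).toNat (m := a) (fun i hi => (F A A[X]).map_isZero (hv i (by omega))) fun i => ?_
    by_cases hi : i < a ∨ b < i
    · exact hzero _ fun q => ModuleCat.subsingleton_of_isZero ((DerivedCategory.homologyFunctor _ q).map_isZero
        ((shiftFunctor (Dual.D A[X]) (-i)).map_isZero ((DerivedCategory.singleFunctor (ModuleCat.{u} A[X]) 0).map_isZero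
          ((F A A[X]).map_isZero (hv i hi)))))
    · intro M _ _ k hk
      haveI := hbase i M (-i + k) (by omega)
      exact (Ext.addLin (Dual.inD A[X] M) (Dual.inD A[X] ((F A A[X]).obj (E.X i))) (-i) k (-i + k) rfl).injective.subsingleton
  exact fun M _ _ i hi => hiso (((F A A[X]).mapDerivedCategoryFactors.app E).symm ≪≫ (FD A A[X]).mapIso e) hP M i hi

theorem exists_isDualizing_polynomial {ω : Dual.D A} (hω : Dual.IsDualizing A ω) :
    ∃ ω' : Dual.D A[X], Dual.IsDualizing A[X] ω' := by
  obtain ⟨a, b, h⟩ := Ext.fid_iff.1 (show Ext.FID ω from hω.finite_injective_dimension)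
  exact ⟨_, isDualizing_FD hω ⟨a, b + 1, fid_polynomial h⟩⟩

theorem exists_isDualizing_of_ringEquiv {B : Type u} [CommRing B] (e : A ≃+* B) {ω : Dual.D A}
    (hω : Dual.IsDualizing A ω) : ∃ ω' : Dual.D B, Dual.IsDualizing B ω' := by
  letI := e.toRingHom.toAlgebra
  haveI : IsLocalization (⊥ : Submonoid A) A :=
    IsLocalization.self fun x hx => by rw [Submonoid.mem_bot.1 hx]; exact one_mem _
  haveI : IsLocalization (⊥ : Submonoid A) B :=
    IsLocalization.isLocalization_of_algEquiv (⊥ : Submonoid A) (AlgEquiv.ofRingEquiv (f := e) fun _ => rfl)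
  haveI := IsLocalization.flat B (⊥ : Submonoid A)
  haveI : IsNoetherianRing B := isNoetherianRing_of_ringEquiv A e
  exact ⟨_, isDualizing_localization (⊥ : Submonoid A) hω⟩

theorem exists_isDualizing_mvPolynomial {ω : Dual.D A} (hω : Dual.IsDualizing A ω) :
    ∀ n : ℕ, ∃ ω' : Dual.D (MvPolynomial (Fin n) A), Dual.IsDualizing (MvPolynomial (Fin n) A) ω'
  | 0 => exists_isDualizing_of_ringEquiv (MvPolynomial.isEmptyRingEquiv A (Fin 0)).symm hω
  | n + 1 => by
    obtain ⟨ω₁, h₁⟩ := exists_isDualizing_mvPolynomial hω n
    obtain ⟨ω₂, h₂⟩ := exists_isDualizing_polynomial h₁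
    exact exists_isDualizing_of_ringEquiv (MvPolynomial.finSuccEquiv A n).toRingEquiv.symm h₂

end Groth.Agent.H4DR.FlatBC
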