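import Groth.Prelude.Def_Wider
import Mathlib.RingTheory.Flat.Basic
import Mathlib.RingTheory.Ideal.Quotient.Operations
import Mathlib.LinearAlgebra.TensorProduct.RightExactness
import Mathlib.RingTheory.TensorProduct.Quotient

/-!
# Torsion modules and `m ↦ 1 ⊗ m`
-/

set_option autoImplicit false
set_option linter.style.haveILetI false
set_option linter.unusedVariables false

universe u v

open TensorProduct

namespace Groth.Agent.H4DR.FlatBC

variable {A : Type u} {B : Type v} [CommRing A] [CommRing B] [Algebra A B] (I : Ideal A)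

theorem eq_smul_of_sub_mem {J : Ideal A} {M : Type*} [AddCommGroup M] [Module A M] {m : M}
    (hm : ∀ c ∈ J, c • m = 0) {b : B} {a : A} (hba : b - algebraMap A B a ∈ J.map (algebraMap A B)) :
    b ⊗ₜ[A] m = (1 : B) ⊗ₜ[A] (a • m) := by
  have h0 : ∀ c ∈ J.map (algebraMap A B), c ⊗ₜ[A] m = 0 := fun c hc => by
    replace hc : c ∈ (J • ⊤ : Submodule A B) := by rw [Ideal.smul_top_eq_map]; exact hc
    refine Submodule.smul_induction_on hc (fun x hx y _ => ?_) (fun x y hx hy => by rw [add_tmul, hx, hy, add_zero])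
    rw [TensorProduct.smul_tmul, hm x hx, tmul_zero]
  rw [TensorProduct.tmul_smul, TensorProduct.smul_tmul', Algebra.smul_def, mul_one, ← sub_eq_zero, ← sub_tmul]
  exact h0 _ hba

variable (hq : ∀ n : ℕ, 0 < n → Function.Bijective
      (Ideal.quotientMap (Ideal.map (algebraMap A B) (I ^ n)) (algebraMap A B) Ideal.le_comap_map))
include hq

theorem exists_approx (b : B) {n : ℕ} (hn : 0 < n) :
    ∃ a : A, b - algebraMap A B a ∈ (I ^ n).map (algebraMap A B) := by
  obtain ⟨x, hx⟩ := (hq n hn).2 (Ideal.Quotient.mk _ b)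
  obtain ⟨a, rfl⟩ := Ideal.Quotient.mk_surjective x
  rw [Ideal.quotientMap_mk, Ideal.Quotient.mk_eq_mk_iff_sub_mem] at hx
  exact ⟨a, by simpa using neg_mem hx⟩

theorem smul_eq_of_approx {M : Type*} [AddCommGroup M] [Module A M] {m : M} {n n' : ℕ} (hn : 0 < n) (hn' : 0 < n')
    (hm : ∀ c ∈ I ^ n, c • m = 0) (hm' : ∀ c ∈ I ^ n', c • m = 0) {b : B} {a a' : A}
    (ha : b - algebraMap A B a ∈ (I ^ n).map (algebraMap A B))
    (ha' : b - algebraMap A B a' ∈ (I ^ n').map (algebraMap A B)) : a • m = a' • m := by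
  wlog h : n ≤ n' generalizing n n' a a'
  · exact (this hn' hn hm' hm ha' ha (le_of_not_ge h)).symm
  have h2 : algebraMap A B (a' - a) ∈ (I ^ n).map (algebraMap A B) := by
    have := sub_mem ha (Ideal.map_mono (Ideal.pow_le_pow_right h) ha')
    rw [map_sub]
    simpa using this
  have h3 : Ideal.Quotient.mk (I ^ n) (a' - a) = 0 := (hq n hn).1 (by
    rw [Ideal.quotientMap_mk, map_zero, Ideal.Quotient.eq_zero_iff_mem]; exact h2)
  have h4 := hm _ (Ideal.Quotient.eq_zero_iff_mem.1 h3)
  rw [sub_smul, sub_eq_zero] at h4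
  exact h4.symm

/-- `M → B ⊗ M` is bijective for `I`-power torsion modules. -/
theorem bijective_one_tmul (M : Type*) [AddCommGroup M] [Module A M] (hM : LocCoh.IsPowerTorsion I M) :
    Function.Bijective (fun m : M => (1 : B) ⊗ₜ[A] m) := by
  classical
  have hM' : ∀ m : M, ∃ n, 0 < n ∧ ∀ c ∈ I ^ n, c • m = 0 := fun m => by
    obtain ⟨n, hn⟩ := hM m
    exact ⟨n + 1, n.succ_pos, fun c hc => hn c (Ideal.pow_le_pow_right n.le_succ hc)⟩
  choose ν hν hkill using hM'
  choose α hα using fun (b : B) (m : M) => exists_approx I hq b (hν m)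
  have key : ∀ (b : B) (m : M) (n : ℕ), 0 < n → (∀ c ∈ I ^ n, c • m = 0) → ∀ a : A,
      b - algebraMap A B a ∈ (I ^ n).map (algebraMap A B) → α b m • m = a • m :=
    fun b m n hn hm a ha => smul_eq_of_approx I hq (hν m) hn (hkill m) hm (hα b m) ha
  let r : B →ₗ[A] M →ₗ[A] M := LinearMap.mk₂ A (fun b m => α b m • m)
    (fun b b' m => by
      rw [key (b + b') m (ν m) (hν m) (hkill m) (α b m + α b' m) (by
        rw [map_add, add_sub_add_comm]; exact add_mem (hα b m) (hα b' m)), add_smul])
    (fun c b m => by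
      rw [key (c • b) m (ν m) (hν m) (hkill m) (c * α b m) (by
        rw [map_mul, Algebra.smul_def, ← mul_sub]; exact Ideal.mul_mem_left _ _ (hα b m)), mul_smul])
    (fun b m m' => by
      let n := max (ν m) (max (ν m') (ν (m + m')))
      have hn : 0 < n := (hν m).trans_le (le_max_left _ _)
      obtain ⟨a, ha⟩ := exists_approx I hq b hn
      rw [key b (m + m') n hn (fun c hc => hkill _ c (Ideal.pow_le_pow_right
          ((le_max_right _ _).trans (le_max_right _ _)) hc)) a ha,
        key b m n hn (fun c hc => hkill _ c (Ideal.pow_le_pow_right (le_max_left _ _) hc)) a ha,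
        key b m' n hn (fun c hc => hkill _ c (Ideal.pow_le_pow_right
          ((le_max_left _ _).trans (le_max_right _ _)) hc)) a ha, smul_add])
    (fun c b m => by
      rw [key b (c • m) (ν m) (hν m) (fun d hd => by rw [smul_comm, hkill m d hd, smul_zero]) (α b m) (hα b m),
        smul_comm])
  refine ⟨Function.LeftInverse.injective (g := TensorProduct.lift r) fun m => ?_, fun t => ?_⟩
  · rw [TensorProduct.lift.tmul]
    show α 1 m • m = m
    rw [key 1 m (ν m) (hν m) (hkill m) 1 (by simp), one_smul]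
  · induction t using TensorProduct.induction_on with
    | zero => exact ⟨0, tmul_zero _ _⟩
    | add x y hx hy =>
      obtain ⟨m, rfl⟩ := hx
      obtain ⟨m', rfl⟩ := hy
      exact ⟨m + m', tmul_add _ _ _⟩
    | tmul b m => exact ⟨α b m • m, (eq_smul_of_sub_mem (hkill m) (hα b m)).symm⟩

omit hq in
/-- A flat algebra agreeing with `A` modulo `I` agrees modulo every power of `I`. -/
theorem bijective_quotientMap_pow [Module.Flat A B]
    (hs : Function.Surjective ((Ideal.Quotient.mk (I.map (algebraMap A B))).comp (algebraMap A B)))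
    (hk : RingHom.ker ((Ideal.Quotient.mk (I.map (algebraMap A B))).comp (algebraMap A B)) = I) :
    ∀ n : ℕ, 0 < n → Function.Bijective
      (Ideal.quotientMap (Ideal.map (algebraMap A B) (I ^ n)) (algebraMap A B) Ideal.le_comap_map) := by
  have h1 : ∀ b : B, ∃ a : A, b - algebraMap A B a ∈ I.map (algebraMap A B) := fun b => by
    obtain ⟨a, ha⟩ := hs (Ideal.Quotient.mk _ b)
    exact ⟨a, Ideal.Quotient.eq.1 ha.symm⟩
  have h1' : ∀ a : A, algebraMap A B a ∈ I.map (algebraMap A B) → a ∈ I := fun a ha => by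
    rw [← hk, RingHom.mem_ker]
    exact Ideal.Quotient.eq_zero_iff_mem.2 ha
  -- injectivity for modules killed by `I`
  have h0 : ∀ (P : Type u) [AddCommGroup P] [Module A P], (∀ c ∈ I, ∀ x : P, c • x = 0) →
      Function.Injective (fun x : P => (1 : B) ⊗ₜ[A] x) := fun P _ _ hP x y hxy => by
    letI : Module (A ⧸ I) P := Module.IsTorsionBySet.module (fun x c => hP c.1 c.2 x)
    haveI : IsScalarTower A (A ⧸ I) P := Module.IsTorsionBySet.isScalarTower _
    let β : B →+* A ⧸ I := ((Ideal.quotEquivOfEq hk).toRingHom.comp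
      (RingHom.quotientKerEquivOfSurjective hs).symm.toRingHom).comp (Ideal.Quotient.mk (I.map (algebraMap A B)))
    have hβ : ∀ a : A, β (algebraMap A B a) = Ideal.Quotient.mk I a := fun a => by
      show Ideal.quotEquivOfEq hk ((RingHom.quotientKerEquivOfSurjective hs).symm _) = _
      rw [show Ideal.Quotient.mk (I.map (algebraMap A B)) (algebraMap A B a) =
        RingHom.quotientKerEquivOfSurjective hs (Ideal.Quotient.mk _ a) from rfl, RingEquiv.symm_apply_apply,
        Ideal.quotEquivOfEq_mk]
    let r : B →ₗ[A] P →ₗ[A] P := LinearMap.mk₂ A (fun b p => β b • p)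
      (fun b b' p => by rw [map_add, add_smul])
      (fun c b p => by rw [Algebra.smul_def, map_mul, hβ, mul_smul, ← Ideal.Quotient.algebraMap_eq, algebraMap_smul])
      (fun b p q => smul_add _ _ _) (fun c b p => smul_comm _ _ _)
    have := congrArg (TensorProduct.lift r) hxy
    simpa [r] using this
  intro n hn
  induction n with
  | zero => omega
  | succ n ih =>
    rcases Nat.eq_zero_or_pos n with rfl | hpos
    · refine ⟨(injective_iff_map_eq_zero _).2 fun x hx => ?_, fun x => ?_⟩
      · obtain ⟨a, rfl⟩ := Ideal.Quotient.mk_surjective x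
        rw [Ideal.quotientMap_mk, Ideal.Quotient.eq_zero_iff_mem] at hx
        simp only [zero_add, pow_one] at hx ⊢
        exact Ideal.Quotient.eq_zero_iff_mem.2 (by rw [pow_one]; exact h1' a hx)
      · obtain ⟨b, rfl⟩ := Ideal.Quotient.mk_surjective x
        obtain ⟨a, ha⟩ := h1 b
        exact ⟨Ideal.Quotient.mk _ a, by
          rw [Ideal.quotientMap_mk]; exact Ideal.Quotient.eq.2 (by simpa using neg_mem ha)⟩
    · obtain ⟨ihi, ihs⟩ := ih hpos
      refine ⟨(injective_iff_map_eq_zero _).2 fun x hx => ?_, fun x => ?_⟩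
      · obtain ⟨a, rfl⟩ := Ideal.Quotient.mk_surjective x
        rw [Ideal.quotientMap_mk, Ideal.Quotient.eq_zero_iff_mem] at hx
        have han : a ∈ I ^ n := Ideal.Quotient.eq_zero_iff_mem.1 (ihi (by
          rw [Ideal.quotientMap_mk, map_zero, Ideal.Quotient.eq_zero_iff_mem]
          exact Ideal.map_mono (Ideal.pow_le_pow_right n.le_succ) hx))
        let S : Submodule A (A ⧸ I ^ (n + 1)) := Submodule.map (Submodule.mkQ (I ^ (n + 1))) (I ^ n)
        have hS : ∀ c ∈ I, ∀ y : S, c • y = 0 := fun c hc y => by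
          obtain ⟨_, ⟨d, hd, rfl⟩⟩ := y
          refine Subtype.ext ((Submodule.Quotient.mk_eq_zero _).2 ?_)
          rw [pow_succ']
          exact Ideal.mul_mem_mul hc hd
        have hy : (1 : B) ⊗ₜ[A] (⟨Submodule.Quotient.mk a, a, han, rfl⟩ : S) = 0 := by
          apply Module.Flat.lTensor_preserves_injective_linearMap (M := B) S.subtype S.subtype_injective
          rw [LinearMap.lTensor_tmul, map_zero]
          show (1 : B) ⊗ₜ[A] (Submodule.Quotient.mk a : A ⧸ I ^ (n + 1)) = 0
          refine (Algebra.TensorProduct.quotIdealMapEquivTensorQuot B (I ^ (n + 1))).symm.injective ?_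
          rw [map_zero]
          show Submodule.Quotient.mk (a • (1 : B)) = 0
          rw [Submodule.Quotient.mk_eq_zero, Algebra.smul_def, mul_one]
          exact hx
        exact congrArg Subtype.val (h0 S hS (hy.trans (tmul_zero _ _).symm))
      · obtain ⟨b, rfl⟩ := Ideal.Quotient.mk_surjective x
        have hsub : ∀ z ∈ (I ^ n).map (algebraMap A B),
            ∃ a : A, z - algebraMap A B a ∈ (I ^ (n + 1)).map (algebraMap A B) := fun z hz => by
          replace hz : z ∈ (I ^ n • ⊤ : Submodule A B) := by rw [Ideal.smul_top_eq_map]; exact hz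
          refine Submodule.smul_induction_on hz (fun c hc y _ => ?_) ?_
          · obtain ⟨a, ha⟩ := h1 y
            refine ⟨c * a, ?_⟩
            rw [map_mul, Algebra.smul_def, ← mul_sub, pow_succ, Ideal.map_mul]
            exact Ideal.mul_mem_mul (Ideal.mem_map_of_mem _ hc) ha
          · rintro y z ⟨a, ha⟩ ⟨a', ha'⟩
            exact ⟨a + a', by rw [map_add, add_sub_add_comm]; exact add_mem ha ha'⟩
        obtain ⟨x₀, hx₀⟩ := ihs (Ideal.Quotient.mk _ b)
        obtain ⟨a, rfl⟩ := Ideal.Quotient.mk_surjective x₀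
        rw [Ideal.quotientMap_mk, Ideal.Quotient.mk_eq_mk_iff_sub_mem] at hx₀
        obtain ⟨a', ha'⟩ := hsub _ (by simpa using neg_mem hx₀)
        refine ⟨Ideal.Quotient.mk _ (a + a'), ?_⟩
        rw [Ideal.quotientMap_mk, Ideal.Quotient.mk_eq_mk_iff_sub_mem, map_add]
        convert neg_mem ha' using 1
        ring

end Groth.Agent.H4DR.FlatBC
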