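import Groth.Agent.H4DR.FlatBC.Adj
import Groth.Agent.H4DR.FlatBC.TorsionTensor
import Groth.Agent.H4DR.Ext.InjAmp
import Groth.Agent.H4DR.RG.Good
import Groth.Agent.H4DR.HT.Model
import Groth.Agent.H4DR.DComplete.Adic.Orth
import Groth.Agent.H26Dual2.PolyStep

/-!
# Morphisms out of torsion modules and flat base change
-/

set_option autoImplicit false
set_option linter.style.haveILetI false
set_option linter.unusedVariables false

universe u

open CategoryTheory CategoryTheory.Limits Pretriangulated TensorProduct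
open Groth.Agent.H4DR.PCoh (hm δl)

attribute [local instance] HasDerivedCategory.standard

namespace Groth.Agent.H4DR.FlatBC

variable {A : Type u} [CommRing A]

/-- The cone of `f` has torsion cohomology for `f` and where `W` has. -/
theorem torsion_cone {W W' : Dual.D A} (f : A) {a : W ⟶ W'} {b : W' ⟶ W⟦(1 : ℤ)⟧}
    (hT : Triangle.mk (f • 𝟙 W) a b ∈ distTriang (Dual.D A))
    (g : A) (hg : g = f ∨ ∀ i (x : Dual.HD A W i), ∃ n : ℕ, g ^ n • x = 0) :
    ∀ i (x : Dual.HD A W' i), ∃ n : ℕ, g ^ n • x = 0 := by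
  intro i x
  have hm1 : ∀ (j : ℤ) (y : Dual.HD A W j), hm j (f • 𝟙 W) y = f • y := fun j y => by
    rw [DComplete.hm_smul, PCoh.hm_id]; rfl
  let T := Triangle.mk (f • 𝟙 W) a b
  let y : Dual.HD A W (i + 1) := δl T i (i + 1) rfl x
  have hy : f • y = 0 := (hm1 (i + 1) y).symm.trans ((PCoh.ex₁ T hT i (i + 1) rfl).apply_apply_eq_zero x)
  rcases hg with rfl | hg
  · obtain ⟨z, hz⟩ : ∃ z : Dual.HD A W i, hm i a z = g • x :=
      (PCoh.ex₃ T hT i (i + 1) rfl (g • x)).1 ((map_smul _ _ _).trans hy)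
    refine ⟨2, ?_⟩
    rw [pow_two, mul_smul, ← hz, ← map_smul (hm i a) g, ← hm1 i z]
    exact (PCoh.ex₂ T hT i).apply_apply_eq_zero z
  · obtain ⟨n, hn⟩ := hg (i + 1) y
    obtain ⟨z, hz⟩ : ∃ z : Dual.HD A W i, hm i a z = g ^ n • x :=
      (PCoh.ex₃ T hT i (i + 1) rfl (g ^ n • x)).1 ((map_smul _ _ _).trans hn)
    obtain ⟨m, hm'⟩ := hg i z
    exact ⟨m + n, by rw [pow_add, mul_smul, ← hz, ← map_smul (hm i a), hm', map_zero]⟩

/-- A family killed elementwise by powers of generators is power torsion. -/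
theorem isPowerTorsion_of_generators {M : Type*} [AddCommGroup M] [Module A M] (s : Finset A)
    (h : ∀ f ∈ s, ∀ x : M, ∃ n : ℕ, f ^ n • x = 0) :
    LocCoh.IsPowerTorsion (Ideal.span (s : Set A)) M := fun x => by
  classical
  let K : Ideal A := LinearMap.ker (LinearMap.toSpanSingleton A M x)
  have hle : Ideal.span (s : Set A) ≤ K.radical := Ideal.span_le.2 fun f hf => by
    obtain ⟨n, hn⟩ := h f hf x
    exact ⟨n, LinearMap.mem_ker.2 hn⟩
  obtain ⟨n, hn⟩ := Ideal.exists_pow_le_of_le_radical_of_fg hle ⟨s, rfl⟩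
  exact ⟨n, fun a ha => LinearMap.mem_ker.1 (hn ha)⟩

variable {B : Type u} [CommRing B] [Algebra A B] [Module.Flat A B]

/-- `f ↦ f` followed by the unit. -/
noncomputable abbrev η (W : Dual.D A) : W ⟶ (DRing.restrictD (algebraMap A B)).obj ((FD A B).obj W) :=
  (adjFD A B).unit.app W

theorem map_smul_id (f : A) (W : Dual.D A) :
    (DRing.restrictD (algebraMap A B)).map ((FD A B).map (f • 𝟙 W)) =
      f • 𝟙 ((DRing.restrictD (algebraMap A B)).obj ((FD A B).obj W)) := by
  rw [FD_map_smul, CategoryTheory.Functor.map_id]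
  exact H26Dual2.restrictD_smul_id _ _ f

variable (B) in
/-- Morphisms from `P` do not see the unit. -/
def Blind (P W : Dual.D A) : Prop := Function.Bijective (fun x : P ⟶ W => x ≫ η (B := B) W)

variable {s : Finset A}
  (hI : ∀ (M : Type u) [AddCommGroup M] [Module A M], LocCoh.IsPowerTorsion (Ideal.span (s : Set A)) M →
    Function.Bijective fun x : M => (1 : B) ⊗ₜ[A] x)
include hI

/-- Objects killed by the generators do not see the unit. -/
theorem blind_of_killed {P : Dual.D A} (hP : ∀ f ∈ s, f • 𝟙 P = 0) :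
    ∀ (r : Finset A) (W : Dual.D A), r ⊆ s → (∀ g ∈ s, g ∉ r → ∀ i (x : Dual.HD A W i), ∃ n : ℕ, g ^ n • x = 0) →
      Blind B P W := by
  classical
  intro r
  induction r using Finset.induction_on with
  | empty =>
    intro W _ hW
    haveI : IsIso (η (B := B) W) := isIso_unit W fun i => hI _ (isPowerTorsion_of_generators s fun f hf =>
      hW f hf (Finset.notMem_empty f) i)
    exact ((Iso.homToEquiv (Z := P) (asIso (η (B := B) W)))).bijective
  | insert f r hfr ih =>
    intro W hr hW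
    have hf : f ∈ s := hr (Finset.mem_insert_self f r)
    have hr' : r ⊆ s := (Finset.subset_insert f r).trans hr
    obtain ⟨W', a, b, hT⟩ := distinguished_cocone_triangle (f • 𝟙 W)
    let T := Triangle.mk (f • 𝟙 W) a b
    let R := DRing.restrictD (algebraMap A B)
    let T' := R.mapTriangle.obj ((FD A B).mapTriangle.obj T)
    have hT' : T' ∈ distTriang (Dual.D A) := R.map_distinguished _ ((FD A B).map_distinguished _ hT)
    have h1 : ∀ {Y : Dual.D A} (x : P ⟶ Y), x ≫ (f • 𝟙 Y) = 0 := fun x => by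
      rw [Linear.comp_smul, Category.comp_id, show f • x = (f • 𝟙 P) ≫ x by rw [Linear.smul_comp, Category.id_comp],
        hP f hf, zero_comp]
    have hT1 : T'.mor₁ = f • 𝟙 T'.obj₁ := map_smul_id f W
    have hnat : ∀ {Y Z : Dual.D A} (m : Y ⟶ Z) (x : P ⟶ Y),
        (x ≫ η (B := B) Y) ≫ R.map ((FD A B).map m) = (x ≫ m) ≫ η (B := B) Z := fun m x => by
      rw [Category.assoc, Category.assoc]
      exact congrArg _ ((adjFD A B).unit.naturality m).symm
    have hW' : Blind B P W' := ih W' hr' fun g hg hgr i x =>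
      torsion_cone f hT g (by
        by_cases hgf : g = f
        · exact Or.inl hgf
        · exact Or.inr (hW g hg (by simp [hgf, hgr]))) i x
    have key : ∀ {V V' : Dual.D A} {a' : V ⟶ V'} {b' : V' ⟶ V⟦(1 : ℤ)⟧},
        Triangle.mk (f • 𝟙 V) a' b' ∈ distTriang (Dual.D A) → Blind B P V' →
        Function.Injective (fun x : P ⟶ V => x ≫ η (B := B) V) := fun {V V' a' b'} hV hb x y hxy => by
      have h0 : (x - y) ≫ a' = 0 := hb.1 (by
        show ((x - y) ≫ a') ≫ η (B := B) V' = 0 ≫ η (B := B) V'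
        rw [← hnat a' (x - y), Preadditive.sub_comp, show x ≫ η (B := B) V = y ≫ η (B := B) V from hxy, sub_self,
          zero_comp, zero_comp])
      obtain ⟨w, hw⟩ := (Triangle.mk (f • 𝟙 V) a' b').coyoneda_exact₂ hV (x - y) h0
      exact sub_eq_zero.1 (hw.trans (h1 w))
    refine ⟨key hT hW', fun y => ?_⟩
    obtain ⟨x', hx'⟩ := hW'.2 (y ≫ T'.mor₂)
    -- `x'` lifts to `W`
    have hb0 : x' ≫ b = 0 := by
      obtain ⟨W'', a'', b'', hT''⟩ := distinguished_cocone_triangle (f • 𝟙 (W⟦(1 : ℤ)⟧))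
      refine key hT'' (ih W'' hr' fun g hg hgr i x => torsion_cone f hT'' g (by
        by_cases hgf : g = f
        · exact Or.inl hgf
        · refine Or.inr fun i x => ?_
          obtain ⟨n, hn⟩ := hW g hg (by simp [hgf, hgr]) (1 + i) (PCoh.hShift W 1 i (1 + i) rfl x)
          exact ⟨n, (PCoh.hShift W 1 i (1 + i) rfl).injective (by rw [map_smul, hn, map_zero])⟩) i x) ?_
      show (x' ≫ b) ≫ η (B := B) (W⟦(1 : ℤ)⟧) = 0 ≫ η (B := B) (W⟦(1 : ℤ)⟧)
      rw [← hnat b x', show x' ≫ η (B := B) W' = y ≫ T'.mor₂ from hx', zero_comp]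
      refine (Category.assoc y (R.map ((FD A B).map a)) (R.map ((FD A B).map b))).trans ?_
      rw [← Functor.map_comp, ← Functor.map_comp, show a ≫ b = 0 from comp_distTriang_mor_zero₂₃ T hT,
        Functor.map_zero, Functor.map_zero, comp_zero]
    obtain ⟨x, rfl⟩ := T.coyoneda_exact₃ hT x' hb0
    obtain ⟨z, hz⟩ := T'.coyoneda_exact₂ hT' (x ≫ η (B := B) W - y)
      ((Preadditive.sub_comp _ _ _).trans (sub_eq_zero.2 ((hnat a x).trans hx')))
    refine ⟨x, sub_eq_zero.1 (hz.trans ?_)⟩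
    rw [hT1]
    exact h1 z

theorem subsingleton_hom_cone {P : Dual.D A} (hP : ∀ f ∈ s, f • 𝟙 P = 0) (W : Dual.D A)
    {C : Dual.D A} {a : (DRing.restrictD (algebraMap A B)).obj ((FD A B).obj W) ⟶ C} {b : C ⟶ W⟦(1 : ℤ)⟧}
    (hC : Triangle.mk (η (B := B) W) a b ∈ distTriang (Dual.D A)) : Subsingleton (P ⟶ C) := by
  have hall : ∀ (P' : Dual.D A), (∀ f ∈ s, f • 𝟙 P' = 0) → Blind B P' W := fun P' hP' =>
    blind_of_killed hI hP' s W subset_rfl fun g hg hn => absurd hg hn
  refine subsingleton_of_forall_eq 0 fun x => ?_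
  let T := Triangle.mk (η (B := B) W) a b
  have hs : ∀ f ∈ s, f • 𝟙 (P⟦(-1 : ℤ)⟧) = 0 := fun f hf => by
    rw [← CategoryTheory.Functor.map_id, ← Functor.map_smul, hP f hf, Functor.map_zero]
  have hb : x ≫ b = 0 := by
    -- shift back to `W`
    let e : P⟦(-1 : ℤ)⟧⟦(1 : ℤ)⟧ ≅ P := (shiftFunctorCompIsoId (Dual.D A) (-1) 1 (by norm_num)).app P
    obtain ⟨g, hg⟩ := (shiftFunctor (Dual.D A) (1 : ℤ)).map_surjective (e.hom ≫ x ≫ b)
    have h0 : g ≫ η (B := B) W = 0 ≫ η (B := B) W := by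
      refine (shiftFunctor (Dual.D A) (1 : ℤ)).map_injective ?_
      rw [Functor.map_comp, hg, zero_comp, Functor.map_zero, Category.assoc, Category.assoc,
        show b ≫ (η (B := B) W)⟦(1 : ℤ)⟧' = 0 from comp_distTriang_mor_zero₃₁ T hC, comp_zero, comp_zero]
    have hg0 : g = 0 := (hall _ hs).1 h0
    rw [hg0, Functor.map_zero] at hg
    exact (cancel_epi e.hom).1 (hg.symm.trans comp_zero.symm)
  obtain ⟨y, rfl⟩ := T.coyoneda_exact₃ hC x hb
  obtain ⟨z, hz⟩ := (hall P hP).2 y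
  refine (congrArg (· ≫ a) hz.symm).trans ((Category.assoc z _ _).trans ?_)
  rw [show η (B := B) W ≫ a = 0 from comp_distTriang_mor_zero₁₂ T hC, comp_zero]

omit hI

omit [Module.Flat A B] in
/-- A module exhausted by submodules orthogonal to all shifts of `C` is orthogonal to `C`. -/
theorem subsingleton_of_exhaustive {M : Type u} [AddCommGroup M] [Module A M] (S : ℕ → Submodule A M)
    (hS : Monotone S) (hex : ∀ x, ∃ n, x ∈ S n) (C : Dual.D A)
    (h : ∀ (n : ℕ) (k : ℤ), Subsingleton (Dual.inD A (S n) ⟶ C⟦k⟧)) : Subsingleton (Dual.inD A M ⟶ C) := by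
  obtain ⟨E, hE, hinj, ⟨e⟩⟩ := RG.exists_model C
  refine subsingleton_of_forall_eq 0 fun φ => ?_
  let Z := Hom.sgl 0 (ModuleCat.of A M)
  obtain ⟨g, hg⟩ := DComplete.exists_Q_map_eq (P := Z) ((show DRing.toD Z ⟶ C from φ) ≫ e.inv)
  let φ₀ : M →ₗ[A] E.X 0 :=
    (g.f 0).hom ∘ₗ ((HomologicalComplex.singleObjXSelf (ComplexShape.up ℤ) 0 (ModuleCat.of A M)).inv).hom
  have hφ₀ : ∀ x, (E.d 0 (0 + 1)).hom (φ₀ x) = 0 := fun x => by
    show (g.f 0 ≫ E.d 0 (0 + 1)).hom _ = 0
    rw [g.comm, HomologicalComplex.single_obj_d, zero_comp]; rfl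
  have hh : ∀ (n : ℕ) (k : ℤ), Subsingleton (DRing.toD (RHom.sgl0 (ModuleCat.of A (S n))) ⟶ (DRing.toD E)⟦k⟧) :=
    fun n k => haveI := h n k
      ((Iso.homToEquiv (Z := Dual.inD A (S n)) ((shiftFunctor (Dual.D A) k).mapIso e))).injective.subsingleton
  have step : ∀ n, ∀ k : S n →ₗ[A] E.X (0 - 1), (∀ x : S n, (E.d (0 - 1) 0).hom (k x) = φ₀ x) →
      ∃ k' : S (n + 1) →ₗ[A] E.X (0 - 1), (∀ x : S (n + 1), (E.d (0 - 1) 0).hom (k' x) = φ₀ x) ∧
        k' ∘ₗ Submodule.inclusion (hS n.le_succ) = k := fun n k hk => by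
    obtain ⟨k₁, hk₁⟩ := Ext.exists_lift_of_subsingleton (ModuleCat.of A (S (n + 1))) 0 (hh _ 0)
      (φ₀ ∘ₗ (S (n + 1)).subtype) (LinearMap.ext fun x => hφ₀ _)
    let incl := Submodule.inclusion (hS n.le_succ)
    let c : S n →ₗ[A] E.X (0 - 1) := k₁ ∘ₗ incl - k
    obtain ⟨l, hl⟩ := Ext.exists_lift_of_subsingleton (ModuleCat.of A (S n)) (0 - 1) (hh _ _) c
      (LinearMap.ext fun x => by
        show (E.d (0 - 1) 0).hom (k₁ (incl x) - k x) = 0
        have hkk : (E.d (0 - 1) 0).hom (k₁ (incl x)) = φ₀ x := LinearMap.congr_fun hk₁ (incl x)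
        rw [map_sub, hk, hkk, sub_self])
    obtain ⟨l', hl'⟩ := (Module.Baer.of_injective (hinj (0 - 1 - 1))).extension_property incl
      (Submodule.inclusion_injective _) l
    refine ⟨k₁ - (E.d (0 - 1 - 1) (0 - 1)).hom ∘ₗ l', fun x => ?_, LinearMap.ext fun x => ?_⟩
    · have hkk : (E.d (0 - 1) 0).hom (k₁ x) = φ₀ x := LinearMap.congr_fun hk₁ x
      show (E.d (0 - 1) 0).hom (k₁ x - (E.d (0 - 1 - 1) (0 - 1)).hom (l' x)) = φ₀ x
      rw [map_sub, hkk]
      show φ₀ x - (E.d (0 - 1 - 1) (0 - 1) ≫ E.d (0 - 1) 0).hom (l' x) = φ₀ x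
      rw [E.d_comp_d]
      simp
    · show k₁ (incl x) - (E.d (0 - 1 - 1) (0 - 1)).hom (l' (incl x)) = k x
      rw [show l' (incl x) = l x from LinearMap.congr_fun hl' x,
        show (E.d (0 - 1 - 1) (0 - 1)).hom (l x) = k₁ (incl x) - k x from LinearMap.congr_fun hl x, sub_sub_cancel]
  obtain ⟨k₀, hk₀⟩ := Ext.exists_lift_of_subsingleton (ModuleCat.of A (S 0)) 0 (hh _ 0)
    (φ₀ ∘ₗ (S 0).subtype) (LinearMap.ext fun x => hφ₀ _)
  let ks : (n : ℕ) → {k : S n →ₗ[A] E.X (0 - 1) // ∀ x : S n, (E.d (0 - 1) 0).hom (k x) = φ₀ x} := fun n =>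
    Nat.rec ⟨k₀, fun x => LinearMap.congr_fun hk₀ x⟩
      (fun n p => ⟨(step n p.1 p.2).choose, (step n p.1 p.2).choose_spec.1⟩) n
  have hcompat : ∀ {n m : ℕ} (hnm : n ≤ m) (x : M) (hx : x ∈ S n), (ks m).1 ⟨x, hS hnm hx⟩ = (ks n).1 ⟨x, hx⟩ := by
    intro n m hnm
    induction m, hnm using Nat.le_induction with
    | base => exact fun x hx => rfl
    | succ m hnm ih =>
      intro x hx
      rw [← ih x hx]
      exact LinearMap.congr_fun (step m (ks m).1 (ks m).2).choose_spec.2 ⟨x, hS hnm hx⟩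
  choose ν hν using hex
  let k : M →ₗ[A] E.X (0 - 1) :=
    { toFun := fun x => (ks (ν x)).1 ⟨x, hν x⟩
      map_add' := fun x y => by
        let n := max (ν (x + y)) (max (ν x) (ν y))
        rw [← hcompat (le_max_left _ (max (ν x) (ν y))) (x + y) (hν _),
          ← hcompat ((le_max_left (ν x) (ν y)).trans (le_max_right (ν (x + y)) _)) x (hν x),
          ← hcompat ((le_max_right (ν x) (ν y)).trans (le_max_right (ν (x + y)) _)) y (hν y), ← map_add]
        rfl
      map_smul' := fun c x => by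
        rw [RingHom.id_apply, ← hcompat (le_max_left (ν (c • x)) (ν x)) (c • x) (hν _),
          ← hcompat (le_max_right (ν (c • x)) (ν x)) x (hν x), ← map_smul]
        rfl }
  have hk : ∀ x, (E.d (0 - 1) 0).hom (k x) = φ₀ x := fun x => (ks (ν x)).2 _
  let hom : ∀ i j, (ComplexShape.up ℤ).Rel j i → (Z.X i ⟶ E.X j) := fun i j hji =>
    if hi : i = 0 then
      (HomologicalComplex.singleObjXIsoOfEq (ComplexShape.up ℤ) 0 _ i hi).hom ≫ ModuleCat.ofHom k ≫
        (E.XIsoOfEq (show 0 - 1 = j by subst hi; have : j + 1 = 0 := hji; omega)).hom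
    else 0
  have Hm : Homotopy g 0 := by
    refine (Homotopy.ofEq ?_).trans (Homotopy.nullHomotopy' hom)
    refine HomologicalComplex.from_single_hom_ext ?_
    rw [Homotopy.nullHomotopicMap'_f (show (ComplexShape.up ℤ).Rel (0 - 1) 0 by simp)
      (show (ComplexShape.up ℤ).Rel 0 (0 + 1) by simp), HomologicalComplex.single_obj_d, zero_comp, zero_add]
    simp only [hom, dif_pos, HomologicalComplex.XIsoOfEq_rfl, Iso.refl_hom, Category.comp_id, Category.assoc]
    refine (cancel_epi (HomologicalComplex.singleObjXSelf (ComplexShape.up ℤ) 0 (ModuleCat.of A M)).inv).1 ?_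
    refine ModuleCat.hom_ext (LinearMap.ext fun x => ?_)
    refine (hk x).symm.trans ?_
    show (E.d (0 - 1) 0).hom (k x) = (E.d (0 - 1) 0).hom (k _)
    refine congrArg (fun y => (E.d (0 - 1) 0).hom (k y)) ?_
    exact (congr($((HomologicalComplex.singleObjXSelf (ComplexShape.up ℤ) 0 (ModuleCat.of A M)).inv_hom_id).hom x)).symm
  have h0 : (show DRing.toD Z ⟶ C from φ) ≫ e.inv = 0 :=
    hg.symm.trans ((DerivedCategory.Q_map_eq_of_homotopy (h := Hm)).trans (Functor.map_zero _ _ _))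
  exact (cancel_mono e.inv).1 (h0.trans zero_comp.symm)

include hI

/-- Power torsion modules do not see the unit. -/
theorem blind_of_isPowerTorsion {M : Type u} [AddCommGroup M] [Module A M]
    (hM : LocCoh.IsPowerTorsion (Ideal.span (s : Set A)) M) (W : Dual.D A) : Blind B (Dual.inD A M) W := by
  obtain ⟨C, a, b, hC⟩ := distinguished_cocone_triangle (η (B := B) W)
  let T := Triangle.mk (η (B := B) W) a b
  let I := Ideal.span (s : Set A)
  have hsh : ∀ (P : Dual.D A), (∀ f ∈ s, f • 𝟙 P = 0) → ∀ k : ℤ, Subsingleton (P ⟶ C⟦k⟧) := fun P hP k => by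
    have hsub := subsingleton_hom_cone hI (P := P⟦-k⟧) (fun f hf => by
      rw [← CategoryTheory.Functor.map_id, ← Functor.map_smul, hP f hf, Functor.map_zero]) W hC
    refine subsingleton_of_forall_eq 0 fun x => ?_
    refine (shiftFunctor (Dual.D A) (-k)).map_injective ?_
    rw [Functor.map_zero, ← cancel_mono ((shiftFunctorCompIsoId (Dual.D A) k (-k) (add_neg_cancel k)).hom.app C),
      zero_comp]
    exact hsub.elim _ _
  have key : ∀ (n : ℕ) (N : Type u) [AddCommGroup N] [Module A N], (∀ c ∈ I ^ n, ∀ x : N, c • x = 0) →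
      ∀ k : ℤ, Subsingleton (Dual.inD A N ⟶ C⟦k⟧) := by
    intro n
    induction n with
    | zero =>
      intro N _ _ hN k
      haveI : Subsingleton N := subsingleton_of_forall_eq 0 fun x => by
        simpa using hN 1 (by simp) x
      exact Ext.subsingleton_ex_of_subsingleton N _
    | succ n ih =>
      intro N _ _ hN k
      let L : Submodule A N := I • ⊤
      obtain ⟨δ, hT⟩ := Ext.exists_triangle L.subtype L.mkQ L.subtype_injective (Submodule.mkQ_surjective _)
        (LinearMap.exact_subtype_mkQ L)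
      haveI h1 : Subsingleton (Dual.inD A L ⟶ C⟦k⟧) := ih L (fun c hc x => by
        obtain ⟨x, hx⟩ := x
        refine Subtype.ext ?_
        show c • x = 0
        refine Submodule.smul_induction_on hx (fun d hd y _ => ?_) (fun y z hy hz => by rw [smul_add, hy, hz, add_zero])
        rw [smul_smul, hN _ (by rw [pow_succ]; exact Ideal.mul_mem_mul hc hd)]) k
      haveI h3 : Subsingleton (Dual.inD A (N ⧸ L) ⟶ C⟦k⟧) := hsh _ (fun f hf => by
        rw [← CategoryTheory.Functor.map_id, ← Functor.map_smul]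
        refine (congrArg _ (ModuleCat.hom_ext (Submodule.linearMap_qext _ (LinearMap.ext fun y => ?_)))).trans
          (Functor.map_zero _ _ _)
        show f • (Submodule.Quotient.mk y : N ⧸ L) = 0
        rw [← Submodule.Quotient.mk_smul, Submodule.Quotient.mk_eq_zero]
        exact Submodule.smul_mem_smul (Ideal.subset_span hf) trivial) k
      refine subsingleton_of_forall_eq 0 fun x => ?_
      obtain ⟨z, hz⟩ := Triangle.yoneda_exact₂ _ hT x (h1.elim _ _)
      exact hz.trans ((congrArg _ (h3.elim z 0)).trans comp_zero)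
  have hC0 : ∀ k : ℤ, Subsingleton (Dual.inD A M ⟶ C⟦k⟧) := fun k => by
    let S : ℕ → Submodule A M := fun n => Submodule.torsionBySet A M ((I ^ n : Ideal A) : Set A)
    refine subsingleton_of_exhaustive S
      (fun n m h => Submodule.torsionBySet_le_torsionBySet_of_subset (Ideal.pow_le_pow_right h))
      (fun x => ?_) _ fun n l => ?_
    · obtain ⟨n, hn⟩ := hM x
      exact ⟨n, (Submodule.mem_torsionBySet_iff _ _).2 fun c => hn c c.2⟩
    · haveI := key n (S n) (fun c hc x => Subtype.ext ((Submodule.mem_torsionBySet_iff _ _).1 x.2 ⟨c, hc⟩))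
        (k + l)
      exact (Iso.homToEquiv (Z := Dual.inD A (S n))
        ((shiftFunctorAdd (Dual.D A) k l).app C).symm).injective.subsingleton
  refine ⟨fun x y hxy => ?_, fun y => ?_⟩
  · obtain ⟨z, hz⟩ := T.invRotate.coyoneda_exact₂ (inv_rot_of_distTriang T hC) (x - y) (by
      show (x - y) ≫ η (B := B) W = 0
      rw [Preadditive.sub_comp, sub_eq_zero]; exact hxy)
    exact sub_eq_zero.1 (hz.trans ((congrArg (· ≫ _) ((hC0 (-1)).elim z 0)).trans zero_comp))
  · haveI := hC0 0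
    have hy : y ≫ a = 0 := ((Iso.homToEquiv (Z := Dual.inD A M)
      ((shiftFunctorZero (Dual.D A) ℤ).app C).symm)).injective (Subsingleton.elim _ _)
    obtain ⟨x, hx⟩ := T.coyoneda_exact₂ hC y hy
    exact ⟨x, hx.symm⟩

end Groth.Agent.H4DR.FlatBC
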