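import Groth.Agent.H4DR.Dualizing.Prime
import Groth.Agent.H4DR.FlatBC.Descent

/-!
# Dualizing complexes along flat maps with `p B_n = n B_n`
-/

set_option autoImplicit false
set_option linter.style.haveILetI false
set_option linter.unusedVariables false

universe u

open CategoryTheory CategoryTheory.Limits Pretriangulated TensorProduct
open Groth.Agent.H4DR.Ext (Ex exCongr preIso)
open Groth.Agent.H4DR.FlatBC (F FD Bij exBC hBC toFₗ)

attribute [local instance] HasDerivedCategory.standard

namespace Groth.Agent.H4DR.Dualizing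

variable {A B : Type u} [CommRing A] [CommRing B] [Algebra A B] [Module.Flat A B]
  [IsNoetherianRing A] [IsNoetherianRing B] {ω : Dual.D A}

/-- The closed fibre at every maximal ideal is a field. -/
def MaxUnramified (A B : Type u) [CommRing A] [CommRing B] [Algebra A B] : Prop :=
  ∀ n : MaximalSpectrum B, ((n.asIdeal.comap (algebraMap A B)).map (algebraMap A B)).map
    (algebraMap B (Localization.AtPrime n.asIdeal)) = IsLocalRing.maximalIdeal (Localization.AtPrime n.asIdeal)

theorem isDualizing_maxUnramified (hω : Dual.IsDualizing A ω) (hB : MaxUnramified A B) :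
    Dual.IsDualizing B ((FD A B).obj ω) := by
  obtain ⟨a, b, hab⟩ := exists_bounds hω
  obtain ⟨c, d, hcd⟩ := hω.finite_injective_dimension
  have hlow : ∀ j : ℤ, j < a → Subsingleton (Dual.HD B ((FD A B).obj ω) j) := fun j hj =>
    FlatBC.subsingleton_HD_FD (hab j (Or.inl hj))
  refine FlatBC.isDualizing_FD hω ?_
  have hamp : DRing.HasInjAmplitudeIn B (min a c) d ((FD A B).obj ω) := by
    haveI : ∀ n : MaximalSpectrum B, Module.Flat B (Localization.AtPrime n.asIdeal) := fun n =>
      IsLocalization.flat _ n.asIdeal.primeCompl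
    refine FlatBC.injAmp_descent _ FlatBC.jFaithful_maximal hlow fun n M _ _ i hi => ?_
    let L := Localization.AtPrime n.asIdeal
    haveI : IsNoetherianRing L := IsLocalization.isNoetherianRing n.asIdeal.primeCompl L ‹_›
    let W : Dual.D L := (FD B L).obj ((FD A B).obj ω)
    have hfin : ∀ j : ℤ, Module.Finite L (Dual.HD L W j) :=
      FlatBC.finite_HD_FD (FlatBC.finite_HD_FD hω.finite_cohomology)
    have hlowW : ∀ j : ℤ, j < a → Subsingleton (Dual.HD L W j) := fun j hj =>
      FlatBC.subsingleton_HD_FD (hlow j hj)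
    let p : PrimeSpectrum A := ⟨n.asIdeal.comap (algebraMap A B), inferInstance⟩
    let J : Ideal B := p.asIdeal.map (algebraMap A B)
    have hres : ∀ j : ℤ, d < j → Subsingleton (Ex (Dual.inD L (IsLocalRing.ResidueField L)) W j) := fun j hj => by
      have h1 : Subsingleton (L ⊗[B] Ex (Dual.inD B (B ⧸ J)) ((FD A B).obj ω) j) := by
        refine not_nontrivial_iff_subsingleton.1 fun hne => ?_
        have hs := (mem_support_iff_nontrivial (⟨n.asIdeal, inferInstance⟩ : PrimeSpectrum B) _).2 hne
        rw [← (exQuotBC hω p.asIdeal j).support_eq] at hs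
        have h' := (mem_support_iff_deg hω p j).1 (comap_mem_support hs)
        have := (deg_mem_range hω p hcd).2
        omega
      haveI := h1
      let e := (FlatBC.exBC (FlatBC.bij_module_of_bounded (B := L) (W := ((FD A B).obj ω)⟦j⟧) (a := a - j)
        (FlatBC.subsingleton_HD_shift hlow j) (B ⧸ J))).trans
        (preIso (((F B L).mapDerivedCategorySingleFunctor 0).app (ModuleCat.of B (B ⧸ J))).symm _)
      let e' := e.trans (exCongr (((Ideal.quotientEquivAlgOfEq L (hB n)).symm.toLinearEquiv).trans
        ((Algebra.TensorProduct.quotIdealMapEquivTensorQuot L J).toLinearEquiv.trans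
          (toFₗ L (ModuleCat.of B (B ⧸ J))))) _)
      exact e'.symm.injective.subsingleton
    have hampL : DRing.HasInjAmplitudeIn L (min a c) d W := Ext.injAmp_of_vanish W _ _ fun I i hi => by
      rcases hi with hi | hi
      · exact Ext.subsingleton_ex_low hlowW (L ⧸ I) i (by omega)
      · exact Ext.subsingleton_ex_quotient hfin hlowW (fun i => d < i) (fun i hi => by omega) hres I i hi
    exact Ext.subsingleton_inD_of_injAmp hampL M hi
  exact ⟨_, _, fun M _ _ i hi => Ext.subsingleton_inD_of_injAmp hamp M hi⟩

end Groth.Agent.H4DR.Dualizing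

namespace Groth.Agent.H4DR.Dualizing

variable {A B : Type u} [CommRing A] [CommRing B] [Algebra A B]

theorem maxUnramified_of_surjective (I : Ideal A)
    (hs : Function.Surjective ((Ideal.Quotient.mk (I.map (algebraMap A B))).comp (algebraMap A B)))
    (hJ : I.map (algebraMap A B) ≤ (⊥ : Ideal B).jacobson) : MaxUnramified A B := fun n => by
  have hI : I.map (algebraMap A B) ≤ n.asIdeal := hJ.trans (sInf_le ⟨bot_le, n.isMaximal⟩)
  have h : (n.asIdeal.comap (algebraMap A B)).map (algebraMap A B) = n.asIdeal := by
    refine le_antisymm Ideal.map_comap_le fun x hx => ?_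
    obtain ⟨a, ha⟩ := hs (Ideal.Quotient.mk _ x)
    have h1 : algebraMap A B a - x ∈ I.map (algebraMap A B) := Ideal.Quotient.eq.1 ha
    have h2 : a ∈ n.asIdeal.comap (algebraMap A B) := Ideal.mem_comap.2 (by simpa using add_mem (hI h1) hx)
    have h3 : I.map (algebraMap A B) ≤ (n.asIdeal.comap (algebraMap A B)).map (algebraMap A B) :=
      Ideal.map_mono (Ideal.map_le_iff_le_comap.1 hI)
    simpa using sub_mem (Ideal.mem_map_of_mem (algebraMap A B) h2) (h3 h1)
  rw [h, Localization.AtPrime.map_eq_maximalIdeal]

theorem maxUnramified_of_local [IsLocalRing A] [IsLocalRing B] [IsLocalHom (algebraMap A B)]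
    (hm : (IsLocalRing.maximalIdeal A).map (algebraMap A B) = IsLocalRing.maximalIdeal B) : MaxUnramified A B :=
  fun n => by
    have hn : n.asIdeal = IsLocalRing.maximalIdeal B := IsLocalRing.eq_maximalIdeal n.isMaximal
    have h : (n.asIdeal.comap (algebraMap A B)).map (algebraMap A B) = n.asIdeal := by
      rw [hn, IsLocalRing.maximalIdeal_comap (algebraMap A B), hm]
    rw [h, Localization.AtPrime.map_eq_maximalIdeal]

theorem isNormalized_FD [IsLocalRing A] [IsLocalRing B] [Module.Flat A B] [IsNoetherianRing A]
    {ω : Dual.D A} (hω : Dual.IsDualizing A ω) (hn : Dual.IsNormalized A ω)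
    (hm : (IsLocalRing.maximalIdeal A).map (algebraMap A B) = IsLocalRing.maximalIdeal B) :
    Dual.IsNormalized B ((FlatBC.FD A B).obj ω) := fun i hi => by
  haveI : Subsingleton (Ex (Dual.inD A (A ⧸ IsLocalRing.maximalIdeal A)) ω i) := hn i hi
  exact ((exCongr (Ideal.quotientEquivAlgOfEq B hm).symm.toLinearEquiv _).symm.trans
    (exQuotBC hω (IsLocalRing.maximalIdeal A) i).symm).injective.subsingleton

end Groth.Agent.H4DR.Dualizing
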