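import Groth.Agent.H4DR.FlatBC.Point

/-!
# Flat base change of morphisms out of objects with finite cohomology
-/

set_option autoImplicit false
set_option linter.style.haveILetI false
set_option linter.unusedVariables false

universe u

open CategoryTheory CategoryTheory.Limits Pretriangulated TensorProduct
open Groth.Agent.H4DR.Ext (Ex pre)

attribute [local instance] HasDerivedCategory.standard

namespace Groth.Agent.H4DR.FlatBC

variable {A B : Type u} [CommRing A] [CommRing B] [Algebra A B] [Module.Flat A B]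

lemma subsingleton_HD_FD {K : Dual.D A} {i : ℤ} (h : Subsingleton (Dual.HD A K i)) :
    Subsingleton (Dual.HD B ((FD A B).obj K) i) :=
  haveI := h
  (hBC B i K).injective.subsingleton

lemma bij_of_isZero_src {X W : Dual.D A} (h : IsZero X) : Bij B X W := by
  haveI : Subsingleton (X ⟶ W) := ⟨fun f g => h.eq_of_src f g⟩
  haveI : Subsingleton ((FD A B).obj X ⟶ (FD A B).obj W) := ⟨fun f g => ((FD A B).map_isZero h).eq_of_src f g⟩
  exact ⟨Function.injective_of_subsingleton _, fun f => ⟨0, Subsingleton.elim _ _⟩⟩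

/-- Both sides vanish for a target in positive degrees. -/
lemma bij_of_pos (M : Type u) [AddCommGroup M] [Module A M] {W : Dual.D A}
    (hW : ∀ j : ℤ, j < 1 → Subsingleton (Dual.HD A W j)) : Bij B (Dual.inD A M) W := by
  have hM : ∀ i : ℤ, 0 < i → Subsingleton (Dual.HD A (Dual.inD A M) i) := fun i hi =>
    PCoh.subsingleton_HD_inD (ModuleCat.of A M) i (by omega)
  haveI : Subsingleton (Dual.inD A M ⟶ W) := subsingleton_of_forall_eq 0 fun f =>
    Hom.eq_zero_of_HD 0 hM (fun i hi => hW i (by omega)) f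
      (ModuleCat.hom_ext (LinearMap.ext fun x => @Subsingleton.elim _ (hW 0 zero_lt_one) _ _))
  haveI : Subsingleton ((FD A B).obj (Dual.inD A M) ⟶ (FD A B).obj W) := subsingleton_of_forall_eq 0 fun f =>
    Hom.eq_zero_of_HD 0 (fun i hi => subsingleton_HD_FD (hM i hi))
      (fun i hi => subsingleton_HD_FD (hW i (by omega))) f
      (ModuleCat.hom_ext (LinearMap.ext fun x => @Subsingleton.elim _ (subsingleton_HD_FD (hW 0 zero_lt_one)) _ _))
  exact ⟨Function.injective_of_subsingleton _, fun f => ⟨0, Subsingleton.elim _ _⟩⟩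

lemma Bij.shift_src {X W : Dual.D A} (k : ℤ) (h : Bij B X (W⟦-k⟧)) : Bij B (X⟦k⟧) W :=
  ((bij_shift_iff X (W⟦-k⟧) k).2 h).of_iso₂
    (((shiftFunctorCompIsoId (Dual.D A) (-k) k (neg_add_cancel k)).app W))

theorem bij_free : ∀ (n : ℕ) (W : Dual.D A), Bij B (Dual.inD A (Fin n → A)) W
  | 0, W => bij_of_isZero_src ((DerivedCategory.singleFunctor (ModuleCat.{u} A) 0).map_isZero
      (ModuleCat.isZero_of_subsingleton _))
  | n + 1, W => by
    obtain ⟨δ, hT⟩ := Ext.exists_triangle (LinearMap.inl A A (Fin n → A)) (LinearMap.snd A A (Fin n → A))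
      LinearMap.inl_injective LinearMap.snd_surjective Function.Exact.inl_snd
    refine (bij_five _ hT W ((bij_self _).shift_src 1).2 (bij_free n W) (bij_self W)
      ((bij_free n _).shift_src (-1)).1).of_iso ?_
    exact (DerivedCategory.singleFunctor (ModuleCat.{u} A) 0).mapIso
      (Fin.consLinearEquiv A (fun _ : Fin (n + 1) => A)).toModuleIso

lemma subsingleton_HD_shift {W : Dual.D A} {c : ℤ} (hW : ∀ j, j < c → Subsingleton (Dual.HD A W j)) (n : ℤ) (j : ℤ)
    (hj : j < c - n) : Subsingleton (Dual.HD A (W⟦n⟧) j) :=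
  haveI := hW (n + j) (by omega)
  (PCoh.hShift W n j (n + j) rfl).injective.subsingleton

theorem bij_module [IsNoetherianRing A] : ∀ (k : ℕ) (W : Dual.D A) (M : Type u) [AddCommGroup M] [Module A M]
    [Module.Finite A M], (∀ j : ℤ, j < 1 - (k : ℤ) → Subsingleton (Dual.HD A W j)) → Bij B (Dual.inD A M) W
  | 0, W, M, _, _, _, hW => bij_of_pos M (by simpa using hW)
  | k + 1, W, M, _, _, _, hW => by
    have step : ∀ (N : Type u) [AddCommGroup N] [Module A N] [Module.Finite A N],
        ∃ (n : ℕ) (K : Type u) (_ : AddCommGroup K) (_ : Module A K) (_ : Module.Finite A K)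
          (T : Triangle (Dual.D A)) (_ : T ∈ distTriang (Dual.D A)), T.obj₂ = Dual.inD A N ∧
          T.obj₁ = Dual.inD A (Fin n → A) ∧ T.obj₃ = (Dual.inD A K)⟦(1 : ℤ)⟧ := fun N _ _ _ => by
      obtain ⟨n, q, hq⟩ := Module.Finite.exists_fin' A N
      obtain ⟨δ, hT⟩ := Ext.exists_triangle (LinearMap.ker q).subtype q (Submodule.subtype_injective _) hq
        (LinearMap.exact_subtype_ker_map q)
      exact ⟨n, LinearMap.ker q, inferInstance, inferInstance, Module.Finite.of_fg (IsNoetherian.noetherian _),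
        _, rot_of_distTriang _ hT, rfl, rfl, rfl⟩
    have h3 : ∀ (K : Type u) [AddCommGroup K] [Module A K] [Module.Finite A K],
        Bij B ((Dual.inD A K)⟦(1 : ℤ)⟧) W := fun K _ _ _ =>
      (bij_module k (W⟦(-1 : ℤ)⟧) K (fun j hj => subsingleton_HD_shift hW (-1) j (by push_cast; omega))).shift_src 1
    have hinj : ∀ (N : Type u) [AddCommGroup N] [Module A N] [Module.Finite A N],
        Function.Injective (β (B := B) (Dual.inD A N) W) := fun N _ _ _ => by
      obtain ⟨n, K, _, _, _, T, hT, e2, e1, e3⟩ := step N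
      rw [← e2]
      exact injective_five T hT W (by rw [e1]; exact ((bij_free n _).shift_src 1).2)
        (by rw [e3]; exact (h3 K).1) (by rw [e1]; exact (bij_free n W).1)
    obtain ⟨n, K, _, _, _, T, hT, e2, e1, e3⟩ := step M
    rw [← e2]
    refine bij_five T hT W (by rw [e1]; exact ((bij_free n _).shift_src 1).2) (by rw [e3]; exact h3 K)
      (by rw [e1]; exact bij_free n W) ?_
    have h5 : Function.Injective (β (B := B) (Dual.inD A K) W) := hinj K
    rw [e3]
    let i : (Dual.inD A K)⟦(1 : ℤ)⟧⟦(-1 : ℤ)⟧ ≅ Dual.inD A K :=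
      (shiftFunctorCompIsoId (Dual.D A) 1 (-1) (by norm_num)).app _
    refine fun s t hst => ?_
    have hnat : ∀ t, β (B := B) (Dual.inD A K) W ((pre i.inv W).lTensor B t) = pre ((FD A B).map i.inv) _ (β _ W t) :=
      fun t => β_pre i.inv W t
    have := h5 ((hnat s).trans ((congrArg _ hst).trans (hnat t).symm))
    have hb : Function.Injective ((pre i.inv W).lTensor B) := by
      rw [show pre i.inv W = (Ext.preIso i.symm W).toLinearMap from LinearMap.ext fun f => by
        simp [Ext.preIso, Linear.homCongr_apply]]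
      exact ((Ext.preIso i.symm W).lTensor B).injective
    exact hb this

theorem bij_module_of_bounded [IsNoetherianRing A] {W : Dual.D A} {a : ℤ}
    (hW : ∀ j : ℤ, j < a → Subsingleton (Dual.HD A W j)) (M : Type u) [AddCommGroup M] [Module A M]
    [Module.Finite A M] : Bij B (Dual.inD A M) W :=
  bij_module (1 - a).toNat W M fun j hj => hW j (by omega)

/-- Flat base change of `Hom(K, W)` for `K` bounded with finite cohomology. -/
theorem bij_of_finite [IsNoetherianRing A] {K W : Dual.D A} {m m' a : ℤ}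
    (hb : ∀ j, j < m ∨ m' < j → Subsingleton (Dual.HD A K j)) (hf : ∀ j, Module.Finite A (Dual.HD A K j))
    (hW : ∀ j : ℤ, j < a → Subsingleton (Dual.HD A W j)) : Bij B K W := by
  have h : ∀ i : ℤ, Bij B K (W⟦i⟧) := by
    refine Ext.ind_homology (fun K => ∀ i : ℤ, Bij B K (W⟦i⟧)) (fun K hK i => bij_of_isZero_src ?_)
      (fun e h i => (h i).of_iso e)
      (fun T hT h₁ h₃ i => bij_five T hT _ (((h₁ _).of_iso₂ ((shiftFunctorAdd' (Dual.D A) i (-1) _ rfl).app W)).shift_src 1).2
        (h₃ i) (h₁ i) (((h₃ _).of_iso₂ ((shiftFunctorAdd' (Dual.D A) i (-(-1)) _ rfl).app W)).shift_src (-1)).1)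
      (m' + 1 - m).toNat (m := m) (K := K) (fun j hj => hb j (by omega)) (fun j i => ?_)
    · exact (IsZero.iff_id_eq_zero _).2 (Hom.eq_zero_of_HD (0 : ℤ) (fun i _ => hK i) (fun i _ => hK i) _
        (ModuleCat.hom_ext (LinearMap.ext fun x => @Subsingleton.elim _ (hK 0) _ _)))
    · haveI := hf j
      exact (bij_module_of_bounded (a := a - i - j) (fun l hl =>
        subsingleton_HD_shift (fun q hq => subsingleton_HD_shift hW i q (by omega)) _ l (c := a - i) (by omega))
        _).shift_src (-j)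
  exact (h 0).of_iso₂ ((shiftFunctorZero (Dual.D A) ℤ).app W)

/-- `B ⊗ Hom(K, L⟦i⟧) = Hom(FD K, FD L⟦i⟧)`. -/
noncomputable def exBC {K L : Dual.D A} {i : ℤ} (h : Bij B K (L⟦i⟧)) :
    B ⊗[A] Ex K L i ≃ₗ[B] Ex ((FD A B).obj K) ((FD A B).obj L) i :=
  (LinearEquiv.ofBijective (β K (L⟦i⟧)) h).trans
    (Ext.postIso _ (((FD A B).commShiftIso i).app L))

end Groth.Agent.H4DR.FlatBC
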