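import Groth.Agent.H4DR.FlatBC.Point
import Groth.Agent.H4DR.DComplete.Change
import Groth.Agent.H25DTen.Base
import Mathlib.CategoryTheory.Localization.Adjunction

/-!
# `B ⊗_A -` is left adjoint to restriction on derived categories, for `A → B` flat
-/

set_option autoImplicit false
set_option linter.style.haveILetI false
set_option linter.unusedVariables false

universe u

open CategoryTheory CategoryTheory.Limits TensorProduct

attribute [local instance] HasDerivedCategory.standard

namespace Groth.Agent.H4DR.FlatBC

variable (A B : Type u) [CommRing A] [CommRing B] [Algebra A B] [Module.Flat A B]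

noncomputable local instance instSqExt :
    CatCommSq (DTen.extCx (algebraMap A B)) DerivedCategory.Q DerivedCategory.Q (FD A B) :=
  ⟨(F A B).mapDerivedCategoryFactors.symm⟩

noncomputable local instance instSqRes :
    CatCommSq (DTen.resCx (algebraMap A B)) DerivedCategory.Q DerivedCategory.Q (DRing.restrictD (algebraMap A B)) :=
  ⟨(ModuleCat.restrictScalars.{u} (algebraMap A B)).mapDerivedCategoryFactors.symm⟩

/-- The adjunction. -/
noncomputable def adjFD : FD A B ⊣ DRing.restrictD (algebraMap A B) :=
  (H25DTen.adjCx (algebraMap A B)).localization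
    DerivedCategory.Q (HomologicalComplex.quasiIso (ModuleCat.{u} A) (ComplexShape.up ℤ))
    DerivedCategory.Q (HomologicalComplex.quasiIso (ModuleCat.{u} B) (ComplexShape.up ℤ))
    (FD A B) (DRing.restrictD (algebraMap A B))

variable {A B}

theorem isIso_unit_Q (J : DRing.Cx A) (h : QuasiIso ((DTen.unitCx (algebraMap A B)).app J)) :
    IsIso ((adjFD A B).unit.app (DerivedCategory.Q.obj J)) := by
  rw [adjFD, Adjunction.localization_unit_app]
  haveI : IsIso (DerivedCategory.Q.map ((H25DTen.adjCx (algebraMap A B)).unit.app J)) :=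
    (DerivedCategory.isIso_Q_map_iff_quasiIso _ _).2 h
  infer_instance

omit [Module.Flat A B] in
lemma bijective_one_tmul_congr {M N : ModuleCat.{u} A} (e : M ≃ₗ[A] N)
    (h : Function.Bijective fun x : M => (1 : B) ⊗ₜ[A] x) :
    Function.Bijective fun x : N => (1 : B) ⊗ₜ[A] x := by
  have : (fun x : N => (1 : B) ⊗ₜ[A] x) = e.lTensor B ∘ (fun x : M => (1 : B) ⊗ₜ[A] x) ∘ e.symm := by
    funext x
    simp
  rw [this]
  exact (e.lTensor B).bijective.comp (h.comp e.symm.bijective)

/-- The unit is an isomorphism when `x ↦ 1 ⊗ x` is bijective on the cohomology. -/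
theorem isIso_unit (W : Dual.D A)
    (h : ∀ n : ℤ, Function.Bijective fun x : Dual.HD A W n => (1 : B) ⊗ₜ[A] x) :
    IsIso ((adjFD A B).unit.app W) := by
  let J := DerivedCategory.Q.objPreimage W
  let e : DRing.toD J ≅ W := DerivedCategory.Q.objObjPreimageIso W
  suffices IsIso ((adjFD A B).unit.app (DerivedCategory.Q.obj J)) from (NatTrans.isIso_app_iff_of_iso _ e).1 this
  refine isIso_unit_Q J ⟨fun n => ?_⟩
  rw [quasiIsoAt_iff_isIso_homologyMap]
  let τ := (ModuleCat.extendRestrictScalarsAdj.{u, u, u} (algebraMap A B)).unit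
  have hτ : IsIso (τ.app (J.sc n).homology) := by
    have hb := bijective_one_tmul_congr (B := B)
      (((PCoh.H A n).mapIso e).symm ≪≫ (DerivedCategory.homologyFunctorFactors (ModuleCat.{u} A) n).app J).toLinearEquiv
      (h n)
    refine (ConcreteCategory.isIso_iff_bijective _).2 ?_
    have hfun : (fun x : (J.sc n).homology => (τ.app (J.sc n).homology).hom x) =
        (toFₗ B (J.sc n).homology) ∘ (fun x : (J.sc n).homology => (1 : B) ⊗ₜ[A] x) := by
      funext x
      exact (toFₗ_tmul (B := B) (J.sc n).homology 1 x).symm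
    show Function.Bijective fun x : (J.sc n).homology => (τ.app (J.sc n).homology).hom x
    rw [hfun]
    exact (toFₗ B _).bijective.comp hb
  haveI := hτ
  haveI : (𝟭 (ModuleCat.{u} A)).PreservesZeroMorphisms := inferInstance
  show IsIso (ShortComplex.homologyMap ((J.sc n).mapNatTrans τ))
  rw [ShortComplex.homologyMap_mapNatTrans]
  infer_instance

end Groth.Agent.H4DR.FlatBC
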