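import Groth.Agent.H4DR.Ext.Point
import Groth.Agent.H4DR.Ext.Finite
import Groth.Agent.H4DR.PCoh.ExactF
import Groth.Agent.H4DR.TorAmp.Exists
import Mathlib.Algebra.FiveLemma
import Mathlib.RingTheory.Flat.Basic
import Mathlib.RingTheory.RingHom.Flat

/-!
# Flat base change of morphisms in the derived category

For `A → B` flat and `FD = (B ⊗_A -)` on derived categories, the comparison
`β X W : B ⊗_A Hom(X, W) → Hom(FD X, FD W)` and the five lemma for it.
-/

set_option autoImplicit false
set_option linter.style.haveILetI false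
set_option linter.unusedVariables false

universe u

open CategoryTheory CategoryTheory.Limits Pretriangulated TensorProduct
open Groth.Agent.H4DR.Ext (Ex pre exact_pre₂)

attribute [local instance] HasDerivedCategory.standard

namespace Groth.Agent.H4DR.FlatBC

variable (A B : Type u) [CommRing A] [CommRing B] [Algebra A B]

/-- Extension of scalars. -/
noncomputable abbrev F : ModuleCat.{u} A ⥤ ModuleCat.{u} B :=
  ModuleCat.extendScalars.{u, u, u} (algebraMap A B)

variable [Module.Flat A B]

noncomputable instance : PreservesFiniteLimits (F A B) :=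
  ModuleCat.preservesFiniteLimits_extendScalars_of_flat (RingHom.flat_algebraMap_iff.2 ‹_›)

/-- The exact base change of derived categories. -/
noncomputable abbrev FD : Dual.D A ⥤ Dual.D B := (F A B).mapDerivedCategory

variable {A B}

omit [Module.Flat A B] in
lemma F_map_smul_id (a : A) (M : ModuleCat.{u} A) :
    (F A B).map (a • 𝟙 M) = algebraMap A B a • 𝟙 ((F A B).obj M) := by
  refine ModuleCat.hom_ext (LinearMap.ext fun t => ?_)
  induction t using TensorProduct.induction_on with
  | zero => exact (map_zero _).trans (map_zero _).symm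
  | add x y hx hy => exact (map_add _ x y).trans ((congrArg₂ (· + ·) hx hy).trans (map_add _ x y).symm)
  | tmul b m =>
    letI := (algebraMap A B).toAlgebra
    letI := (algebraMap A B).toAlgebra
    have key : ∀ (b : B) (m : M), b ⊗ₜ[A] (a • m) = algebraMap A B a • (b ⊗ₜ[A] m) := fun b m => by
      rw [TensorProduct.tmul_smul, algebraMap_smul]
    exact key b m

lemma FD_map_smul {K L : Dual.D A} (a : A) (f : K ⟶ L) :
    (FD A B).map (a • f) = algebraMap A B a • (FD A B).map f := by
  have hid : ∀ K : Dual.D A, (FD A B).map (a • 𝟙 K) = algebraMap A B a • 𝟙 ((FD A B).obj K) := fun K => by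
    let e := DerivedCategory.Q.objObjPreimageIso K
    let P := DerivedCategory.Q.objPreimage K
    have hP : (FD A B).map (DerivedCategory.Q.map (a • 𝟙 P)) = algebraMap A B a • 𝟙 _ := by
      have hC : ((F A B).mapHomologicalComplex (ComplexShape.up ℤ)).map (a • 𝟙 P) = algebraMap A B a • 𝟙 _ :=
        HomologicalComplex.hom_ext _ _ fun i => F_map_smul_id a (P.X i)
      have := (F A B).mapDerivedCategoryFactors_hom_naturality (a • 𝟙 P)
      rw [hC, Functor.map_smul (F := DerivedCategory.Q) (R := B), DerivedCategory.Q.map_id (C := CochainComplex (ModuleCat.{u} B) ℤ),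
        Linear.comp_smul] at this
      refine (cancel_mono ((F A B).mapDerivedCategoryFactors.hom.app P)).1 (this.trans ?_)
      refine (congrArg (algebraMap A B a • ·) (Category.comp_id _)).trans ?_
      exact ((Linear.smul_comp _ _ _ _ _ _).trans (congrArg (algebraMap A B a • ·) (Category.id_comp _))).symm
    have hK : a • 𝟙 K = e.inv ≫ DerivedCategory.Q.map (a • 𝟙 P) ≫ e.hom := by
      rw [Functor.map_smul, DerivedCategory.Q.map_id, Linear.smul_comp, Category.id_comp, Linear.comp_smul,
        e.inv_hom_id]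
    rw [hK, Functor.map_comp, Functor.map_comp, hP, Linear.smul_comp, Category.id_comp, Linear.comp_smul,
      ← Functor.map_comp, e.inv_hom_id, CategoryTheory.Functor.map_id]
  rw [show a • f = (a • 𝟙 K) ≫ f by rw [Linear.smul_comp, Category.id_comp], Functor.map_comp, hid,
    Linear.smul_comp, Category.id_comp]

/-- The comparison, additively. -/
noncomputable def βAdd (X W : Dual.D A) : B ⊗[A] (X ⟶ W) →+ ((FD A B).obj X ⟶ (FD A B).obj W) :=
  TensorProduct.liftAddHom
    { toFun := fun b => (smulAddHom B _ b).comp ((FD A B).mapAddHom)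
      map_zero' := AddMonoidHom.ext fun f => zero_smul B _
      map_add' := fun b c => AddMonoidHom.ext fun f => add_smul b c _ }
    fun a b f => by
      show (a • b) • (FD A B).map f = b • (FD A B).map (a • f)
      rw [FD_map_smul, smul_smul, mul_comm, ← Algebra.smul_def]

/-- The comparison. -/
noncomputable def β (X W : Dual.D A) : B ⊗[A] (X ⟶ W) →ₗ[B] ((FD A B).obj X ⟶ (FD A B).obj W) :=
  { βAdd X W with
    map_smul' := fun c t => by
      induction t using TensorProduct.induction_on with
      | zero => simp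
      | add x y hx hy => simp_all [smul_add]
      | tmul b f =>
        show (c • b) • (FD A B).map f = c • (b • (FD A B).map f)
        rw [smul_eq_mul, mul_smul] }

@[simp] lemma β_tmul (X W : Dual.D A) (b : B) (f : X ⟶ W) : β X W (b ⊗ₜ f) = b • (FD A B).map f := rfl

variable (B) in
/-- The comparison is bijective. -/
def Bij (X W : Dual.D A) : Prop := Function.Bijective (β (B := B) X W)

lemma β_pre {X Y : Dual.D A} (m : X ⟶ Y) (W : Dual.D A) (t : B ⊗[A] (Y ⟶ W)) :
    β X W ((pre m W).lTensor B t) = pre ((FD A B).map m) ((FD A B).obj W) (β Y W t) := by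
  induction t using TensorProduct.induction_on with
  | zero => simp
  | add x y hx hy => rw [map_add, map_add, map_add, map_add, hx, hy]
  | tmul b f =>
    show b • (FD A B).map (m ≫ f) = (FD A B).map m ≫ (b • (FD A B).map f)
    rw [Functor.map_comp, Linear.comp_smul]

lemma Bij.of_iso {X Y W : Dual.D A} (e : X ≅ Y) (h : Bij B X W) : Bij B Y W := by
  have h1 : (β (B := B) Y W : B ⊗[A] (Y ⟶ W) → _) =
      pre ((FD A B).map e.inv) _ ∘ β X W ∘ (pre e.hom W).lTensor B := funext fun t => by
    induction t using TensorProduct.induction_on with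
    | zero => simp
    | add x y hx hy => simp only [Function.comp_apply, map_add] at hx hy ⊢; rw [hx, hy]
    | tmul b f =>
      show b • (FD A B).map f = (FD A B).map e.inv ≫ (b • (FD A B).map (e.hom ≫ f))
      rw [Linear.comp_smul, ← Functor.map_comp, e.inv_hom_id_assoc]
  have hp : pre e.hom W = (Ext.preIso e W).toLinearMap := LinearMap.ext fun f => by
    simp [Ext.preIso, Linear.homCongr_apply]
  have h2 : Function.Bijective ((pre e.hom W).lTensor B) := by
    rw [hp]; exact ((Ext.preIso e W).lTensor B).bijective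
  have hp' : (pre ((FD A B).map e.inv) ((FD A B).obj W) : _ → _) = Ext.preIso ((FD A B).mapIso e.symm) _ := funext fun f => by
    simp [Ext.preIso, Linear.homCongr_apply]
  rw [Bij, h1, hp']
  exact (Ext.preIso ((FD A B).mapIso e.symm) _).bijective.comp (h.comp h2)

lemma Bij.of_iso₂ {X W W' : Dual.D A} (e : W ≅ W') (h : Bij B X W) : Bij B X W' := by
  have h1 : (β (B := B) X W' : B ⊗[A] (X ⟶ W') → _) =
      Ext.postIso ((FD A B).obj X) ((FD A B).mapIso e) ∘ β X W ∘ (Ext.postIso X e.symm).lTensor B := funext fun t => by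
    induction t using TensorProduct.induction_on with
    | zero => simp
    | add x y hx hy => simp only [Function.comp_apply, map_add] at hx hy ⊢; rw [hx, hy]
    | tmul b f =>
      simp only [Function.comp_apply, LinearEquiv.lTensor_tmul, β_tmul, map_smul]
      refine congrArg (b • ·) ?_
      simp [Ext.postIso, Linear.homCongr_apply, ← Functor.map_comp]
  rw [Bij, h1]
  exact (Ext.postIso _ _).bijective.comp (h.comp ((Ext.postIso X e.symm).lTensor B).bijective)

lemma bij_shift_iff (X W : Dual.D A) (k : ℤ) : Bij B (X⟦k⟧) (W⟦k⟧) ↔ Bij B X W := by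
  let e : (X ⟶ W) ≃ₗ[A] (X⟦k⟧ ⟶ W⟦k⟧) := Ext.shiftLin X W k
  let cX := ((FD A B).commShiftIso k).app X
  let cW := ((FD A B).commShiftIso k).app W
  let e' : ((FD A B).obj X ⟶ (FD A B).obj W) ≃+ ((FD A B).obj (X⟦k⟧) ⟶ (FD A B).obj (W⟦k⟧)) :=
    (AddEquiv.ofBijective ((shiftFunctor (Dual.D B) k).mapAddHom (X := (FD A B).obj X) (Y := (FD A B).obj W))
      (Functor.FullyFaithful.map_bijective (Functor.FullyFaithful.ofFullyFaithful _) _ _)).trans
      (Linear.homCongr B cX.symm cW.symm).toAddEquiv
  have h1 : ∀ t, β (B := B) (X⟦k⟧) (W⟦k⟧) (e.lTensor B t) = e' (β X W t) := fun t => by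
    induction t using TensorProduct.induction_on with
    | zero => simp
    | add x y hx hy => rw [map_add, map_add, map_add, map_add, hx, hy]
    | tmul b f =>
      rw [LinearEquiv.lTensor_tmul, β_tmul, β_tmul]
      have he' : e' (b • (FD A B).map f) = cX.hom ≫ ((b • (FD A B).map f)⟦k⟧') ≫ cW.inv := by
        simp [e', Linear.homCongr_apply]
        all_goals rw [show (AddEquiv.ofBijective ((shiftFunctor (Dual.D B) k).mapAddHom (X := (FD A B).obj X) (Y := (FD A B).obj W))
          (Functor.FullyFaithful.map_bijective (Functor.FullyFaithful.ofFullyFaithful _) _ _)) (b • (FD A B).map f) =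
          (b • (FD A B).map f)⟦k⟧' from rfl, Functor.map_smul, Linear.smul_comp, Linear.comp_smul]
      rw [he', show e f = f⟦k⟧' from rfl]
      rw [Functor.map_smul, Linear.smul_comp, Linear.comp_smul]
      refine congrArg (b • ·) ?_
      have := ((FD A B).commShiftIso k).hom.naturality f
      simp only [Functor.comp_map] at this
      refine (cancel_mono cW.hom).1 ?_
      simp only [cX, cW, Iso.app_hom, Iso.app_inv, Category.assoc, Iso.inv_hom_id_app]
      exact this.trans (congrArg (_ ≫ ·) (Category.comp_id _).symm)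
  rw [Bij, Bij, ← Function.Bijective.of_comp_iff _ (e.lTensor B).bijective,
    show (β (B := B) (X⟦k⟧) (W⟦k⟧)) ∘ (e.lTensor B) = e' ∘ β X W from funext h1]
  exact Function.Bijective.of_comp_iff' e'.bijective _

section Five

variable (T : Triangle (Dual.D A)) (hT : T ∈ distTriang (Dual.D A)) (W : Dual.D A)
include hT

lemma exact_B : Function.Exact ((pre T.mor₂ W).lTensor B) ((pre T.mor₁ W).lTensor B) :=
  Module.Flat.lTensor_exact B (exact_pre₂ T hT W)

lemma exact_FD : Function.Exact (pre ((FD A B).map T.mor₂) ((FD A B).obj W))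
    (pre ((FD A B).map T.mor₁) ((FD A B).obj W)) :=
  exact_pre₂ ((FD A B).mapTriangle.obj T) ((FD A B).map_distinguished T hT) _

/-- The four lemma: injectivity at the middle. -/
theorem injective_five (h1 : Function.Surjective (β (B := B) (T.obj₁⟦(1 : ℤ)⟧) W))
    (h2 : Function.Injective (β (B := B) T.obj₃ W)) (h4 : Function.Injective (β (B := B) T.obj₁ W)) :
    Function.Injective (β (B := B) T.obj₂ W) :=
  AddMonoidHom.injective_of_surjective_of_injective_of_injective
    ((pre T.mor₃ W).lTensor B).toAddMonoidHom ((pre T.mor₂ W).lTensor B).toAddMonoidHom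
    ((pre T.mor₁ W).lTensor B).toAddMonoidHom
    (pre ((FD A B).map T.mor₃) _).toAddMonoidHom (pre ((FD A B).map T.mor₂) _).toAddMonoidHom
    (pre ((FD A B).map T.mor₁) _).toAddMonoidHom
    (β (T.obj₁⟦(1 : ℤ)⟧) W).toAddMonoidHom (β T.obj₃ W).toAddMonoidHom (β T.obj₂ W).toAddMonoidHom
    (β T.obj₁ W).toAddMonoidHom
    (AddMonoidHom.ext fun t => (β_pre T.mor₃ W t).symm) (AddMonoidHom.ext fun t => (β_pre T.mor₂ W t).symm)
    (AddMonoidHom.ext fun t => (β_pre T.mor₁ W t).symm)
    (exact_B _ (rot_of_distTriang _ hT) W) (exact_B _ hT W) (exact_FD _ (rot_of_distTriang _ hT) W) h1 h2 h4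

/-- The five lemma. -/
theorem bij_five (h1 : Function.Surjective (β (B := B) (T.obj₁⟦(1 : ℤ)⟧) W)) (h2 : Bij B T.obj₃ W)
    (h4 : Bij B T.obj₁ W) (h5 : Function.Injective (β (B := B) (T.obj₃⟦(-1 : ℤ)⟧) W)) :
    Bij B T.obj₂ W :=
  ⟨injective_five T hT W h1 h2.1 h4.1, AddMonoidHom.surjective_of_surjective_of_surjective_of_injective
    ((pre T.mor₂ W).lTensor B).toAddMonoidHom ((pre T.mor₁ W).lTensor B).toAddMonoidHom
    ((pre T.invRotate.mor₁ W).lTensor B).toAddMonoidHom
    (pre ((FD A B).map T.mor₂) _).toAddMonoidHom (pre ((FD A B).map T.mor₁) _).toAddMonoidHom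
    (pre ((FD A B).map T.invRotate.mor₁) _).toAddMonoidHom
    (β T.obj₃ W).toAddMonoidHom (β T.obj₂ W).toAddMonoidHom (β T.obj₁ W).toAddMonoidHom
    (β (T.obj₃⟦(-1 : ℤ)⟧) W).toAddMonoidHom
    (AddMonoidHom.ext fun t => (β_pre T.mor₂ W t).symm) (AddMonoidHom.ext fun t => (β_pre T.mor₁ W t).symm)
    (AddMonoidHom.ext fun t => (β_pre T.invRotate.mor₁ W t).symm)
    (exact_B _ (inv_rot_of_distTriang _ hT) W) (exact_FD _ hT W)
    (exact_FD _ (inv_rot_of_distTriang _ hT) W) h2.2 h4.2 h5⟩

end Five

end Groth.Agent.H4DR.FlatBC
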