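import Groth.Agent.H4DR.FlatBC.Basic

/-!
# Flat base change of morphisms out of `A[0]`, and of cohomology
-/

set_option autoImplicit false
set_option linter.style.haveILetI false
set_option linter.unusedVariables false

universe u

open CategoryTheory CategoryTheory.Limits TensorProduct
open Groth.Agent.H4DR.DComplete (e0)
open Groth.Agent.H4DR.Ext (Ex pre evalOne bijective_evalOne)

attribute [local instance] HasDerivedCategory.standard

namespace Groth.Agent.H4DR.FlatBC

variable {A B : Type u} [CommRing A] [CommRing B]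

/-- Tensor products for equal algebra structures. -/
noncomputable def tEquiv (M : Type u) [AddCommGroup M] [Module A M] {i₁ i₂ : Algebra A B} (h : i₁ = i₂) :
    (@TensorProduct A _ B M _ _ (@Algebra.toModule A B _ _ i₁) _) ≃+
      (@TensorProduct A _ B M _ _ (@Algebra.toModule A B _ _ i₂) _) := by
  subst h; exact AddEquiv.refl _

lemma tEquiv_tmul (M : Type u) [AddCommGroup M] [Module A M] {i₁ i₂ : Algebra A B} (h : i₁ = i₂) (b : B) (m : M) :
    tEquiv M h (@TensorProduct.tmul A _ B M _ _ (@Algebra.toModule A B _ _ i₁) _ b m) =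
      @TensorProduct.tmul A _ B M _ _ (@Algebra.toModule A B _ _ i₂) _ b m := by
  subst h; rfl

variable [Algebra A B]

lemma toAlgebra_eq : (inferInstance : Algebra A B) = (algebraMap A B).toAlgebra := Algebra.algebra_ext _ _ fun _ => rfl

variable (B) in
/-- `B ⊗_A M` is the extension of scalars. -/
noncomputable def toFₗ (M : ModuleCat.{u} A) : (B ⊗[A] M) ≃ₗ[B] (F A B).obj M :=
  let e : (B ⊗[A] M) ≃+ (F A B).obj M := tEquiv (B := B) M toAlgebra_eq
  { e with
    map_smul' := fun c t => by
      induction t using TensorProduct.induction_on with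
      | zero => exact (congrArg e (smul_zero (A := B ⊗[A] M) c)).trans ((map_zero e).trans
          ((congrArg (c • ·) (map_zero e)).trans (smul_zero c)).symm)
      | add x y hx hy => exact (congrArg e (smul_add c x y)).trans ((map_add e _ _).trans
          ((congrArg₂ (· + ·) hx hy).trans ((congrArg (c • ·) (map_add e x y)).trans (smul_add c _ _)).symm))
      | tmul b m =>
        refine (tEquiv_tmul (B := B) M toAlgebra_eq (c * b) m).trans ?_
        exact (congrArg (fun x : (F A B).obj M => c • x) (tEquiv_tmul (B := B) M toAlgebra_eq b m)).symm }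

lemma toFₗ_tmul (M : ModuleCat.{u} A) (b : B) (m : M) :
    toFₗ B M (b ⊗ₜ m) = (letI := (algebraMap A B).toAlgebra; b ⊗ₜ[A] m) := tEquiv_tmul (B := B) M toAlgebra_eq b m

lemma F_map_toF {M N : ModuleCat.{u} A} (f : M ⟶ N) (t : B ⊗[A] M) :
    ((F A B).map f).hom (toFₗ B M t) = toFₗ B N (f.hom.lTensor B t) := by
  induction t using TensorProduct.induction_on with
  | zero => simp
  | add x y hx hy => rw [map_add, map_add, map_add, map_add, hx, hy]
  | tmul b m =>
    rw [LinearMap.lTensor_tmul, toFₗ_tmul]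
    rw [toFₗ_tmul]
    rfl

variable [Module.Flat A B]

variable (A B) in
/-- `H^i` commutes with flat base change, naturally. -/
noncomputable def ηIso (i : ℤ) : FD A B ⋙ PCoh.H B i ≅ PCoh.H A i ⋙ F A B :=
  Localization.liftNatIso DerivedCategory.Q (HomologicalComplex.quasiIso (ModuleCat.{u} A) (ComplexShape.up ℤ))
    (DerivedCategory.Q ⋙ (FD A B ⋙ PCoh.H B i)) (DerivedCategory.Q ⋙ (PCoh.H A i ⋙ F A B)) _ _
    (PCoh.hMapQ (F A B) i)

variable (B) in
/-- `H^i(FD K) = B ⊗ H^i(K)`. -/
noncomputable def hBC (i : ℤ) (K : Dual.D A) :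
    Dual.HD B ((FD A B).obj K) i ≃ₗ[B] B ⊗[A] Dual.HD A K i :=
  ((ηIso A B i).app K).toLinearEquiv.trans (toFₗ B _).symm

/-- Morphisms out of `A[0]`. -/
theorem bij_self (W : Dual.D A) : Bij B (Dual.inD A A) W := by
  let X : Dual.D A := Dual.inD A A
  let eA : (F A B).obj (ModuleCat.of A A) ≅ ModuleCat.of B B :=
    ((toFₗ B (ModuleCat.of A A)).symm.trans (AlgebraTensorModule.rid A B B)).toModuleIso
  let u : Dual.inD B B ≅ (FD A B).obj X :=
    (DerivedCategory.singleFunctor (ModuleCat.{u} B) 0).mapIso eA.symm ≪≫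
      (((F A B).mapDerivedCategorySingleFunctor 0).app (ModuleCat.of A A)).symm
  let evB : ∀ Y : Dual.D B, ((FD A B).obj X ⟶ Y) →ₗ[B] Dual.HD B Y 0 :=
    fun Y => evalOne Y ∘ₗ (Ext.preIso u Y).toLinearMap
  have hevB : ∀ Y, Function.Bijective (evB Y) := fun Y =>
    (bijective_evalOne Y).comp (Ext.preIso u Y).bijective
  let g0 : Dual.HD A X 0 := (e0 (ModuleCat.of A A)).symm (1 : A)
  let g1 : Dual.HD B ((FD A B).obj X) 0 := PCoh.hm 0 u.hom ((e0 (ModuleCat.of B B)).symm (1 : B))
  have hev : ∀ (Y : Dual.D B) (f : (FD A B).obj X ⟶ Y), evB Y f = PCoh.hm 0 f g1 := fun Y f => by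
    show PCoh.hm 0 ((Ext.preIso u Y) f) _ = _
    rw [show (Ext.preIso u Y) f = u.hom ≫ f by simp [Ext.preIso, Linear.homCongr_apply]]
    exact PCoh.hm_comp_apply 0 _ _ _
  let z : B ⊗[A] Dual.HD A X 0 := hBC B 0 X g1
  -- `z` is a unit multiple of `1 ⊗ g0`
  obtain ⟨c, hc⟩ : ∃ c : B, z = c ⊗ₜ g0 := by
    induction z using TensorProduct.induction_on with
    | zero => exact ⟨0, (TensorProduct.zero_tmul _ _).symm⟩
    | add x y hx hy =>
      obtain ⟨c, rfl⟩ := hx
      obtain ⟨d, rfl⟩ := hy
      exact ⟨c + d, (TensorProduct.add_tmul _ _ _).symm⟩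
    | tmul b m =>
      refine ⟨e0 (ModuleCat.of A A) m • b, ?_⟩
      rw [TensorProduct.smul_tmul]
      refine congrArg (b ⊗ₜ[A] ·) ((e0 (ModuleCat.of A A)).injective ?_)
      rw [map_smul, show e0 (ModuleCat.of A A) g0 = (1 : A) from LinearEquiv.apply_symm_apply _ _]
      exact (mul_one (e0 (ModuleCat.of A A) m : A)).symm
  have hcu : IsUnit c := by
    let e : B ≃ₗ[B] B ⊗[A] Dual.HD A X 0 :=
      (e0 (ModuleCat.of B B)).symm.trans ((PCoh.hEquiv 0 u).trans (hBC B 0 X))
    obtain ⟨d, hd⟩ := e.surjective ((1 : B) ⊗ₜ g0)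
    have he : e 1 = z := rfl
    rw [show d = d • (1 : B) from (mul_one d).symm, map_smul, he, hc, TensorProduct.smul_tmul', smul_eq_mul] at hd
    have := congrArg (fun t => AlgebraTensorModule.rid A B B ((e0 (ModuleCat.of A A)).toLinearMap.lTensor B t)) hd
    simp only [LinearMap.lTensor_tmul, LinearEquiv.coe_coe, g0, LinearEquiv.apply_symm_apply] at this
    exact IsUnit.of_mul_eq_one_right d (((AlgebraTensorModule.rid_tmul A (1 : A) (d * c)).trans (one_smul A _)).symm.trans
      (this.trans ((AlgebraTensorModule.rid_tmul A (1 : A) (1 : B)).trans (one_smul A _))))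
  have key : ∀ t, hBC B 0 W (evB _ (β X W t)) = c • (evalOne W).lTensor B t := fun t => by
    induction t using TensorProduct.induction_on with
    | zero => simp
    | add x y hx hy => rw [map_add, map_add, map_add, map_add, hx, hy, smul_add]
    | tmul b f =>
      rw [β_tmul, map_smul, map_smul, hev, LinearMap.lTensor_tmul, TensorProduct.smul_tmul', smul_eq_mul]
      have hnat : hBC B 0 W (PCoh.hm 0 ((FD A B).map f) g1) = (PCoh.hm 0 f).lTensor B z := by
        refine (toFₗ B _).injective (((toFₗ B _).apply_symm_apply _).trans ?_)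
        refine (congr($((ηIso A B 0).hom.naturality f).hom g1)).trans ?_
        refine Eq.trans ?_ (F_map_toF ((PCoh.H A 0).map f) z)
        exact congrArg ((F A B).map ((PCoh.H A 0).map f)).hom ((toFₗ B _).apply_symm_apply _).symm
      rw [hnat, hc, LinearMap.lTensor_tmul, TensorProduct.smul_tmul', smul_eq_mul, mul_comm b c]
      rfl
  have hcb : Function.Bijective (fun t : B ⊗[A] Dual.HD A W 0 => c • t) := by
    obtain ⟨c', rfl⟩ := hcu
    exact MulAction.bijective (α := Bˣ) (β := B ⊗[A] Dual.HD A W 0) c'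
  have h : Function.Bijective (hBC B 0 W ∘ evB _ ∘ β X W) := by
    rw [show (hBC B 0 W ∘ evB _ ∘ β X W : B ⊗[A] (X ⟶ W) → _) =
      (fun t => c • t) ∘ (evalOne W).lTensor B from funext key]
    exact hcb.comp ((LinearEquiv.ofBijective (evalOne W) (bijective_evalOne W)).lTensor B).bijective
  exact (Function.Bijective.of_comp_iff' ((hBC B 0 W).bijective.comp (hevB _)) _).1 h

end Groth.Agent.H4DR.FlatBC
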